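import Groth.Agent.FCplAffLib.Exact
import Groth.Agent.FCohLib.AlgzFaithful
import Groth.Agent.FComplLib.Spf
import Groth.Agent.AdicRingLib.Base
import Groth.Agent.FormalPunctLib.Tilde

/-!
# Completion of finite modules over affine formal schemes topologically of finite type
-/

set_option autoImplicit false
set_option linter.style.haveILetI false
set_option maxHeartbeats 800000

universe u

open CategoryTheory CategoryTheory.Limits AlgebraicGeometry TopologicalSpace Opposite FSch

noncomputable section

namespace FCplAffLib

variable (A : Type u) [CommRing A] (J : Ideal A)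

/-- Sections are algebras over the ring. -/
@[reducible] def algSecR (S : CommRingCat.{u}) (U : (Spec S).Opens) : Algebra S Γ(Spec S, U) := inferInstance

/-- Sections of modules are modules over the ring. -/
@[reducible] def modSecR (S : CommRingCat.{u}) (M : (Spec S).Modules) (U : (Spec S).Opens) : Module S Γ(M, U) :=
  inferInstance

theorem towSecR (S : CommRingCat.{u}) (M : (Spec S).Modules) (U : (Spec S).Opens) :
    IsScalarTower S Γ(Spec S, U) Γ(M, U) := inferInstance

theorem locSecR (S : CommRingCat.{u}) (f : S) :
    IsLocalization.Away f Γ(Spec S, PrimeSpectrum.basicOpen f) := inferInstance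

theorem locModR (S : CommRingCat.{u}) (M : ModuleCat.{u} S) (f : S) :
    IsLocalizedModule.Away f (tilde.toOpen M (PrimeSpectrum.basicOpen f)).hom := inferInstance

theorem finiteSecR (S : CommRingCat.{u}) (M : ModuleCat.{u} S) [Module.Finite S M] (f : S) :
    Module.Finite Γ(Spec S, PrimeSpectrum.basicOpen f) Γ(tilde M, PrimeSpectrum.basicOpen f) :=
  let l : M →ₗ[S] Γ(tilde M, PrimeSpectrum.basicOpen f) := (tilde.toOpen M (PrimeSpectrum.basicOpen f)).hom
  haveI : IsLocalizedModule (Submonoid.powers f) l := locModR S M f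
  Module.Finite.of_isLocalizedModule (Submonoid.powers f) l

instance algSec (U : (Spec (CommRingCat.of A)).Opens) : Algebra A Γ(Spec (CommRingCat.of A), U) :=
  algSecR (CommRingCat.of A) U

instance modSec (M : (Spec (CommRingCat.of A)).Modules) (U : (Spec (CommRingCat.of A)).Opens) : Module A Γ(M, U) :=
  modSecR (CommRingCat.of A) M U

instance towSec (M : (Spec (CommRingCat.of A)).Modules) (U : (Spec (CommRingCat.of A)).Opens) :
    IsScalarTower A Γ(Spec (CommRingCat.of A), U) Γ(M, U) :=
  towSecR (CommRingCat.of A) M U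

instance locSec (f : A) : IsLocalization.Away f Γ(Spec (CommRingCat.of A), PrimeSpectrum.basicOpen f) :=
  locSecR (CommRingCat.of A) f

theorem isCI (n : ℕ) : IsClosedImmersion (completionToX (Spec (CommRingCat.of A)) (idealSpec A J) n) :=
  FComplLib.isClosedImmersion_completionToX _ _ n

instance (n : ℕ) : IsClosedImmersion (completionToX (Spec (CommRingCat.of A)) (idealSpec A J) n) := isCI A J n

/-- The basic opens. -/
def BO : Set (Spec (CommRingCat.of A)).Opens := Set.range fun f : A => PrimeSpectrum.basicOpen f

theorem isBasis_BO : Opens.IsBasis (BO A) := PrimeSpectrum.isBasis_basic_opens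

theorem isAffine_BO : ∀ U ∈ BO A, IsAffineOpen U := by
  rintro _ ⟨f, rfl⟩
  show IsAffineOpen (X := Spec (CommRingCat.of A)) (PrimeSpectrum.basicOpen f)
  rw [← basicOpen_eq_of_affine (R := CommRingCat.of A) f]
  exact (isAffineOpen_top _).basicOpen _

theorem idl_eq (U : (Spec (CommRingCat.of A)).Opens) (hU : IsAffineOpen U) :
    idl (completionToX (Spec (CommRingCat.of A)) (idealSpec A J)) U = J.map (algebraMap A Γ(Spec (CommRingCat.of A), U)) := by
  show RingHom.ker ((completionToX (Spec (CommRingCat.of A)) (idealSpec A J) 0).app (⟨U, hU⟩ :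
    (Spec (CommRingCat.of A)).affineOpens).1).hom = _
  rw [← Scheme.Hom.ker_apply, show (completionToX (Spec (CommRingCat.of A)) (idealSpec A J) 0).ker = idealSpec A J ^ (0 + 1)
    from Scheme.IdealSheafData.ker_subschemeι _, zero_add, pow_one, FComplLib.idealSpec_eq,
    ← Scheme.IdealSheafData.map_ideal (BlowUpLib.specIdeal J) (U := ⟨U, hU⟩) (V := ⟨⊤, isAffineOpen_top _⟩) (show U ≤ ⊤ from le_top),
    BlowUpLib.specIdeal_top, Ideal.map_map]
  exact congrArg (fun φ => Ideal.map φ J) (IsAffineOpen.algebraMap_Spec_obj (R := CommRingCat.of A) (U := U)).symm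

theorem finite_sections (M : ModuleCat.{u} A) [Module.Finite A M] (f : A) :
    Module.Finite Γ(Spec (CommRingCat.of A), PrimeSpectrum.basicOpen f)
      Γ(tilde (R := CommRingCat.of A) M, PrimeSpectrum.basicOpen f) :=
  @finiteSecR (CommRingCat.of A) M ‹_› f

variable (R : Type u) [CommRing R] (I : Ideal R) [Algebra R A]

theorem arSec (hR : AdicRing.IsBase R I) (hA : AdicRing.TopFiniteType R I A) (M : ModuleCat.{u} A) [Module.Finite A M] :
    ∀ U ∈ BO A, ARSec (completionToX (Spec (CommRingCat.of A)) (idealSpec A (I.map (algebraMap R A))))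
      (tilde (R := CommRingCat.of A) M) U := by
  rintro _ ⟨f, rfl⟩ N
  let B := Γ(Spec (CommRingCat.of A), PrimeSpectrum.basicOpen f)
  letI : Algebra R B := ((algebraMap A B).comp (algebraMap R A)).toAlgebra
  have : IsScalarTower R A B := IsScalarTower.of_algebraMap_eq fun _ => rfl
  have : IsLocalization.Away f B := inferInstance
  have : Algebra.FiniteType A B := IsLocalization.finiteType_of_monoid_fg (Submonoid.powers f) B
  have := finite_sections A M f
  obtain ⟨N₀, hN₀, -, n₀, h⟩ := AdicRingLib.hasAR_finiteType hR hA B _ N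
  refine ⟨n₀, fun m => ?_⟩
  rw [idl_eq A _ _ (isAffine_BO A _ ⟨f, rfl⟩), Ideal.map_map]
  exact (h m).trans (Submodule.smul_mono le_rfl hN₀)

theorem shortExact_complModMap (hR : AdicRing.IsBase R I) (hA : AdicRing.TopFiniteType R I A)
    (h : (completionAlong (Spec (CommRingCat.of A)) (idealSpec A (I.map (algebraMap R A)))).IsFormal)
    (S : ShortComplex (ModuleCat.{u} A)) (hS : S.ShortExact) [Module.Finite A S.X₂] :
    ∃ w : ModSys.realModMap h (complModMap (idealSpec A (I.map (algebraMap R A))) ((tilde.functor (CommRingCat.of A)).map S.f)) ≫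
        ModSys.realModMap h (complModMap (idealSpec A (I.map (algebraMap R A))) ((tilde.functor (CommRingCat.of A)).map S.g)) = 0,
      (ShortComplex.mk _ _ w).ShortExact := by
  have w : ModSys.realModMap h (complModMap (idealSpec A (I.map (algebraMap R A))) ((tilde.functor (CommRingCat.of A)).map S.f)) ≫
      ModSys.realModMap h (complModMap (idealSpec A (I.map (algebraMap R A))) ((tilde.functor (CommRingCat.of A)).map S.g)) = 0 := by
    rw [← FCohLib.realModMap_complModMap_comp, ← Functor.map_comp, S.zero, Functor.map_zero,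
      FCohLib.realModMap_complModMap_zero]
  refine ⟨w, ?_⟩
  have hT := FormalPunctLib.shortExact_tilde (R := CommRingCat.of A) hS
  have : ∀ M : ModuleCat.{u} (CommRingCat.of A), Coh.IsQCoh ((tilde.functor (CommRingCat.of A)).obj M) := fun M =>
    inferInstanceAs (tilde M).IsQuasicoherent
  exact shortExact_realModMap h (completionToX _ _) (completionToX_comm _ _) (FCohLib.ker_app_completionToX _)
    (BO A) (isBasis_BO A) (isAffine_BO A) ((tilde.functor (CommRingCat.of A)).map S.f) _ (fun _ => rfl)
    ((tilde.functor (CommRingCat.of A)).map S.g) _ (fun _ => rfl) (S.map (tilde.functor (CommRingCat.of A))).zero hT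
    (arSec A R I hR hA S.X₂) w

end FCplAffLib

end
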