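import Groth.Agent.FCplAffLib.Affine
import Groth.Agent.FCohLib.PushCompl

/-!
# Completion is fully faithful on finite modules
-/

set_option autoImplicit false
set_option linter.style.haveILetI false
set_option maxHeartbeats 800000

universe u

open CategoryTheory CategoryTheory.Limits AlgebraicGeometry TopologicalSpace Opposite FSch
open FModLib (MSec RSec oK mres)
open FCohLib (resSys rp rp_ext rp_mres)

noncomputable section

namespace FCplAffLib

section Gen

variable {X : TopCat.{u}} {O : Sheaf (Opens.grothendieckTopology X) CommRingCat.{u}}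

/-- A morphism on sections. -/
abbrev appS {P Q : ModSite.Mod O} (θ : P ⟶ Q) (V : Opens X) : MSec P V →ₗ[RSec O V] MSec Q V where
  toFun x := θ.val.app (op V) x
  map_add' := map_add _
  map_smul' r x := map_smul (θ.val.app (op V)).hom r x

theorem appS_res {P Q : ModSite.Mod O} (θ : P ⟶ Q) {W V : Opens X} (hW : W ≤ V) (x : MSec P V) :
    appS θ W (mres P hW x) = mres Q hW (appS θ V x) :=
  PresheafOfModules.naturality_apply θ.val (homOfLE hW).op x

end Gen

variable {A : Type u} [CommRing A] (J : Ideal A)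

/-- The levels. -/
abbrev pA (n : ℕ) : (completionAlong (Spec (CommRingCat.of A)) (idealSpec A J)).X n ⟶ Spec (CommRingCat.of A) :=
  completionToX (Spec (CommRingCat.of A)) (idealSpec A J) n

variable (h : (completionAlong (Spec (CommRingCat.of A)) (idealSpec A J)).IsFormal)

/-- The module on Spec. -/
abbrev TM (M : ModuleCat.{u} A) : (Spec (CommRingCat.of A)).Modules := (tilde.functor (CommRingCat.of A)).obj M

instance isQCoh_TM (M : ModuleCat.{u} A) : Coh.IsQCoh (TM M) :=
  inferInstanceAs (tilde (R := CommRingCat.of A) M).IsQuasicoherent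

/-- A section from an element. -/
def toSec (M : ModuleCat.{u} A) (U : (Spec (CommRingCat.of A)).Opens) : M →ₗ[A] Γ(TM M, U) :=
  (tilde.toOpen (R := CommRingCat.of A) M U).hom

theorem toSec_top (M : ModuleCat.{u} A) : Function.Bijective (toSec M ⊤) :=
  @ConcreteCategory.bijective_of_isIso _ _ _ _ _ _ _ _ (tilde.toOpen (R := CommRingCat.of A) M ⊤)
    (tilde.isIso_toOpen_top (R := CommRingCat.of A) (M := M))

theorem toSec_res (M : ModuleCat.{u} A) {U V : (Spec (CommRingCat.of A)).Opens} (hV : V ≤ U) (m : M) :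
    (TM M).presheaf.map (homOfLE hV).op (toSec M U m) = toSec M V m :=
  congr($(tilde.toOpen_res (R := CommRingCat.of A) M U V (homOfLE hV)) m)

theorem toSec_map {M N : ModuleCat.{u} A} (u : M ⟶ N) (U : (Spec (CommRingCat.of A)).Opens) (m : M) :
    ((tilde.functor (CommRingCat.of A)).map u).app U (toSec M U m) = toSec N U (u m) :=
  congr($(tilde.toOpen_map_app (R := CommRingCat.of A) u U) m)

theorem span_toSec (M : ModuleCat.{u} A) (f : A) {s : Set M} (hs : Submodule.span A s = ⊤) :
    Submodule.span Γ(Spec (CommRingCat.of A), PrimeSpectrum.basicOpen f)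
      (toSec M (PrimeSpectrum.basicOpen f) '' s) = ⊤ := by
  haveI : IsLocalizedModule (Submonoid.powers f) (toSec M (PrimeSpectrum.basicOpen f)) :=
    locModR (CommRingCat.of A) M f
  exact span_eq_top_of_isLocalizedModule _ (Submonoid.powers f) (toSec M (PrimeSpectrum.basicOpen f)) hs

theorem mem_idl_smul (F : (Spec (CommRingCat.of A)).Modules) {U : (Spec (CommRingCat.of A)).Opens} (hU : IsAffineOpen U)
    (n : ℕ) (x : Γ(F, U)) :
    x ∈ idl (pA J) U ^ n • (⊤ : Submodule Γ(Spec (CommRingCat.of A), U) Γ(F, U)) ↔ x ∈ J ^ n • (⊤ : Submodule A Γ(F, U)) := by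
  rw [idl_eq A J U hU, ← Ideal.map_pow, ← Submodule.restrictScalars_mem A, Ideal.smul_restrictScalars,
    Submodule.restrictScalars_top]

theorem toSec_mem (M : ModuleCat.{u} A) (n : ℕ) (m : M) :
    toSec M ⊤ m ∈ idl (pA J) ⊤ ^ n • (⊤ : Submodule Γ(Spec (CommRingCat.of A), ⊤) Γ(TM M, ⊤)) ↔
      m ∈ J ^ n • (⊤ : Submodule A M) := by
  rw [mem_idl_smul J _ (isAffineOpen_top _)]
  constructor
  · intro hm
    rw [← LinearMap.range_eq_top.2 (toSec_top M).2, LinearMap.range_eq_map, ← Submodule.map_smul''] at hm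
    obtain ⟨m', hm', e⟩ := hm
    exact (toSec_top M).1 e ▸ hm'
  · intro hm
    have := Submodule.mem_map_of_mem (f := toSec M ⊤) hm
    rw [Submodule.map_smul''] at this
    exact Submodule.smul_mono le_rfl le_top this

/-- The completed module. -/
abbrev MH (M : ModuleCat.{u} A) : ModF (completionAlong (Spec (CommRingCat.of A)) (idealSpec A J)) h :=
  (resSys (pA J) (completionToX_comm _ _) (TM M)).realMod h

/-- The level map. -/
abbrev tA (M : ModuleCat.{u} A) (U : (Spec (CommRingCat.of A)).Opens) (k : ℕ) :=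
  tk h (pA J) (completionToX_comm _ _) (TM M) U k

theorem exists_cst (M : ModuleCat.{u} A) {U : (Spec (CommRingCat.of A)).Opens} (hU : IsAffineOpen U) (m : M) :
    ∃ x : MSec (MH J h M) (pA J 0 ⁻¹ᵁ U), ∀ k,
      rp h _ _ k (pA J 0 ⁻¹ᵁ U) x = tA J h M U k (toSec M U m) :=
  exists_sec h (pA J) (completionToX_comm _ _) (FCohLib.ker_app_completionToX _) (TM M) hU (fun _ => toSec M U m) fun k => by
    rw [sub_self]; exact zero_mem _

/-- The constant section. -/
def cst (M : ModuleCat.{u} A) {U : (Spec (CommRingCat.of A)).Opens} (hU : IsAffineOpen U) (m : M) :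
    MSec (MH J h M) (pA J 0 ⁻¹ᵁ U) := (exists_cst J h M hU m).choose

theorem rp_cst (M : ModuleCat.{u} A) {U : (Spec (CommRingCat.of A)).Opens} (hU : IsAffineOpen U) (m : M) (k : ℕ) :
    rp h _ _ k (pA J 0 ⁻¹ᵁ U) (cst J h M hU m) = tA J h M U k (toSec M U m) := (exists_cst J h M hU m).choose_spec k

theorem mres_cst (M : ModuleCat.{u} A) {U V : (Spec (CommRingCat.of A)).Opens} (hU : IsAffineOpen U) (hV : IsAffineOpen V)
    (hVU : V ≤ U) (m : M) :
    mres (MH J h M) ((Opens.map (pA J 0).base).monotone hVU) (cst J h M hU m) = cst J h M hV m := by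
  refine rp_ext h _ _ fun k => ?_
  refine (rp_mres h _ _ k _ _).trans ?_
  rw [rp_cst, rp_cst, ← toSec_res M hVU]
  exact (FCohLib.puSecLE_res (pA J k) (TM M) hVU _ _ _ _).symm

theorem cst_add (M : ModuleCat.{u} A) {U : (Spec (CommRingCat.of A)).Opens} (hU : IsAffineOpen U) (a b : M) :
    cst J h M hU (a + b) = cst J h M hU a + cst J h M hU b := by
  refine rp_ext h _ _ fun k => ?_
  refine Eq.trans ?_ (map_add _ _ _).symm
  rw [rp_cst, map_add, map_add]
  exact congrArg₂ (· + ·) (rp_cst J h M hU a k).symm (rp_cst J h M hU b k).symm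

theorem exists_scal {U : (Spec (CommRingCat.of A)).Opens} (hU : IsAffineOpen U) (a : A) :
    ∃ b : RSec ((completionAlong (Spec (CommRingCat.of A)) (idealSpec A J)).Osh h) (pA J 0 ⁻¹ᵁ U),
      ∀ (M : ModuleCat.{u} A) (m : M), cst J h M hU (a • m) = b • cst J h M hU m := by
  obtain ⟨b, hb⟩ := exists_scalar h (pA J) (completionToX_comm _ _) (FCohLib.ker_app_completionToX _) hU
    (fun _ => algebraMap A Γ(Spec (CommRingCat.of A), U) a) fun k => by rw [sub_self]; exact zero_mem _
  refine ⟨b, fun M m => rp_ext h _ _ fun k => ?_⟩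
  rw [rp_smul_tk h (pA J) (completionToX_comm _ _) (TM M) U k b _ (hb k) _ _ (rp_cst J h M hU m k), rp_cst, algebraMap_smul, map_smul]

theorem cst_top_injective (M : ModuleCat.{u} A) [IsHausdorff J M] :
    Function.Injective (cst J h M (isAffineOpen_top _)) := by
  intro a b e
  refine sub_eq_zero.1 (IsHausdorff.haus ‹_› _ fun n => ?_)
  rw [SModEq.zero]
  refine Submodule.smul_mono (Ideal.pow_le_pow_right (Nat.le_succ n)) le_rfl ((toSec_mem J M (n + 1) (a - b)).1 ?_)
  refine ((tk_spec h (pA J) (completionToX_comm _ _) (FCohLib.ker_app_completionToX _) (TM M) (isAffineOpen_top _) n).2 _).1 ?_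
  rw [map_sub, map_sub, ← rp_cst J h M (isAffineOpen_top _), ← rp_cst J h M (isAffineOpen_top _), e, sub_self]

theorem cst_top_surjective (M : ModuleCat.{u} A) [IsPrecomplete J M] :
    Function.Surjective (cst J h M (isAffineOpen_top _)) := by
  intro x
  obtain ⟨a, ha, hax⟩ := exists_seq h (pA J) (completionToX_comm _ _) (FCohLib.ker_app_completionToX _) (TM M) (isAffineOpen_top _) x
  choose b hb using fun k => (toSec_top M).2 (a k)
  have hd : ∀ k, b (k + 1) - b k ∈ J ^ (k + 1) • (⊤ : Submodule A M) := fun k => by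
    refine (toSec_mem J M (k + 1) _).1 ?_
    rw [map_sub, hb, hb]
    exact ha k
  obtain ⟨L, hL⟩ := IsPrecomplete.prec ‹IsPrecomplete J M› (f := b) (fun {m n} hmn => by
    refine SModEq.sub_mem.2 ?_
    induction n, hmn using Nat.le_induction with
    | base => simp
    | succ n hmn ih =>
      have h1 := Submodule.smul_mono (Ideal.pow_le_pow_right (show m ≤ n + 1 by omega)) le_rfl (hd n)
      have h2 := sub_mem ih h1
      rwa [sub_sub, add_sub_cancel] at h2)
  refine ⟨L, rp_ext h _ _ fun k => ?_⟩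
  rw [rp_cst, hax k, ← hb k]
  refine tk_congr h (pA J) (completionToX_comm _ _) (FCohLib.ker_app_completionToX _) (TM M) (isAffineOpen_top _) k ?_
  rw [← map_sub]
  refine (toSec_mem J M (k + 1) _).2 ?_
  have h2 := add_mem (neg_mem (SModEq.sub_mem.1 (hL (k + 1)))) (hd k)
  rwa [neg_sub, sub_add_sub_cancel] at h2

theorem app_cst {M N : ModuleCat.{u} A} (u : M ⟶ N) {U : (Spec (CommRingCat.of A)).Opens} (hU : IsAffineOpen U) (m : M) :
    appS (ModSys.realModMap h (complModMap (idealSpec A J) ((tilde.functor (CommRingCat.of A)).map u)) : MH J h M ⟶ MH J h N)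
      (pA J 0 ⁻¹ᵁ U) (cst J h M hU m) = cst J h N hU (u m) := by
  refine rp_ext h _ _ fun k => ?_
  refine Eq.trans ?_ (rp_cst J h N hU (u m) k).symm
  rw [← toSec_map u U m]
  exact rp_app h (pA J) (completionToX_comm _ _) _ (complModMap (idealSpec A J) _) (fun _ => rfl) U k _ _
    (rp_cst J h M hU m k)

theorem exists_sum (M : ModuleCat.{u} A) {ι : Type u} [Fintype ι] (g : ι → M) (hg : Submodule.span A (Set.range g) = ⊤)
    (f : A) (hU : IsAffineOpen (X := Spec (CommRingCat.of A)) (PrimeSpectrum.basicOpen f))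
    (x : MSec (MH J h M) (pA J 0 ⁻¹ᵁ PrimeSpectrum.basicOpen f)) :
    ∃ b : ι → RSec ((completionAlong (Spec (CommRingCat.of A)) (idealSpec A J)).Osh h) (pA J 0 ⁻¹ᵁ PrimeSpectrum.basicOpen f),
      x = ∑ i, b i • cst J h M hU (g i) := by
  classical
  let U : (Spec (CommRingCat.of A)).Opens := PrimeSpectrum.basicOpen f
  let R := Γ(Spec (CommRingCat.of A), U)
  let v : ι → Γ(TM M, U) := fun i => toSec M U (g i)
  have hv : Submodule.span R (Set.range v) = ⊤ := by
    rw [show Set.range v = toSec M U '' Set.range g from Set.range_comp _ _]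
    exact span_toSec M f hg
  obtain ⟨a, ha, hax⟩ := exists_seq h (pA J) (completionToX_comm _ _) (FCohLib.ker_app_completionToX _) (TM M) hU x
  have key : ∀ (K : Ideal R) (y : Γ(TM M, U)), y ∈ K • (⊤ : Submodule R Γ(TM M, U)) →
      ∃ c : ι → R, (∀ i, c i ∈ K) ∧ ∑ i, c i • v i = y := by
    intro K y hy
    rw [← hv] at hy
    obtain ⟨c, hc, e⟩ := (Submodule.mem_ideal_smul_span_iff_exists_sum _ _ _).1 hy
    exact ⟨c, hc, by rw [← e, Finsupp.sum_fintype]; exact fun i => zero_smul _ _⟩
  obtain ⟨c₀, -, hc₀⟩ := key ⊤ (a 0) (by rw [Submodule.top_smul]; trivial)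
  choose e he1 he2 using fun k => key _ _ (ha k)
  let c : ℕ → ι → R := fun k i => c₀ i + ∑ j ∈ Finset.range k, e j i
  have hcs : ∀ k, ∑ i, c k i • v i = a k := by
    intro k
    simp only [c, add_smul, Finset.sum_smul, Finset.sum_add_distrib]
    rw [Finset.sum_comm, hc₀]
    simp only [he2]
    rw [Finset.sum_range_sub, add_sub_cancel]
  choose b hb using fun i => exists_scalar h (pA J) (completionToX_comm _ _) (FCohLib.ker_app_completionToX _) hU
    (fun k => c k i) fun k => by
      simp only [c, Finset.sum_range_succ, add_sub_add_left_eq_sub, add_sub_cancel_left]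
      exact he1 k i
  refine ⟨b, rp_ext h _ _ fun k => ?_⟩
  rw [hax k, ← hcs k, map_sum]
  refine Eq.trans ?_ (map_sum (((realProj _ h _ _ k).val.app (op (pA J 0 ⁻¹ᵁ U))).hom) _ _).symm
  exact Finset.sum_congr rfl fun i _ =>
    (rp_smul_tk h (pA J) (completionToX_comm _ _) (TM M) U k (b i) _ (hb i k) _ _ (rp_cst J h M hU (g i) k)).symm

theorem ext_of_basis {P Q : ModF (completionAlong (Spec (CommRingCat.of A)) (idealSpec A J)) h} (θ θ' : P ⟶ Q)
    (H : ∀ (f : A) (x : MSec P (pA J 0 ⁻¹ᵁ PrimeSpectrum.basicOpen f)),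
      appS θ (pA J 0 ⁻¹ᵁ PrimeSpectrum.basicOpen f) x = appS θ' (pA J 0 ⁻¹ᵁ PrimeSpectrum.basicOpen f) x) :
    θ = θ' := by
  refine SheafOfModules.hom_ext (PresheafOfModules.hom_ext fun W => ModuleCat.hom_ext (LinearMap.ext fun x => ?_))
  refine sub_eq_zero.1 (FCohLib.eq_zero_of_points Q (appS θ W.unop x - appS θ' W.unop x) fun q hq => ?_)
  obtain ⟨U, ⟨f, rfl⟩, hqU, hUW⟩ := exists_mem_basis (pA J) (BO A) (isBasis_BO A) hq
  refine ⟨_, hUW, hqU, ?_⟩
  refine (map_sub _ _ _).trans (sub_eq_zero.2 ?_)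
  exact ((appS_res θ hUW x).symm.trans (H f _)).trans (appS_res θ' hUW x)

theorem injective_realModMap (M N : ModuleCat.{u} A) [IsHausdorff J N] {u₁ u₂ : M ⟶ N}
    (e : (ModSys.realModMap h (complModMap (idealSpec A J) ((tilde.functor (CommRingCat.of A)).map u₁)) : MH J h M ⟶ MH J h N) =
      ModSys.realModMap h (complModMap (idealSpec A J) ((tilde.functor (CommRingCat.of A)).map u₂))) : u₁ = u₂ := by
  have hT : IsAffineOpen (⊤ : (Spec (CommRingCat.of A)).Opens) := isAffineOpen_top _
  ext m
  exact cst_top_injective J h N ((app_cst J h u₁ hT m).symm.trans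
    ((congrArg (fun t => appS t _ (cst J h M hT m)) e).trans (app_cst J h u₂ hT m)))

theorem exists_realModMap_eq (M N : ModuleCat.{u} A) [Module.Finite A M] [IsHausdorff J N] [IsPrecomplete J N]
    (θ : MH J h M ⟶ MH J h N) : ∃ u : M ⟶ N,
      (ModSys.realModMap h (complModMap (idealSpec A J) ((tilde.functor (CommRingCat.of A)).map u)) : MH J h M ⟶ MH J h N) = θ := by
  classical
  have hT : IsAffineOpen (⊤ : (Spec (CommRingCat.of A)).Opens) := isAffineOpen_top _
  choose v hv using fun m : M => cst_top_surjective J h N (appS θ _ (cst J h M hT m))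
  let u : M →ₗ[A] N :=
    { toFun := v
      map_add' := fun a b => cst_top_injective J h N (by
        rw [hv, cst_add, map_add, cst_add, hv, hv])
      map_smul' := fun a m => cst_top_injective J h N (by
        obtain ⟨b, hb⟩ := exists_scal J h hT a
        rw [hv, RingHom.id_apply, hb, hb, map_smul, hv]) }
  refine ⟨ModuleCat.ofHom u, ext_of_basis J h _ _ fun f x => ?_⟩
  obtain ⟨n, g, hg⟩ := Module.Finite.exists_fin (R := A) (M := M)
  have hU : IsAffineOpen (X := Spec (CommRingCat.of A)) (PrimeSpectrum.basicOpen f) := isAffine_BO A _ ⟨f, rfl⟩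
  have hr : Submodule.span A (Set.range fun i : ULift.{u} (Fin n) => g i.down) = ⊤ := by
    rw [show (fun i : ULift.{u} (Fin n) => g i.down) = g ∘ ULift.down from rfl,
      Function.Surjective.range_comp ULift.down_surjective]
    exact hg
  obtain ⟨b, rfl⟩ := exists_sum J h M (ι := ULift.{u} (Fin n)) (fun i => g i.down) hr f hU x
  rw [map_sum, map_sum]
  refine Finset.sum_congr rfl fun i _ => ?_
  rw [map_smul, map_smul]
  refine congrArg (fun z => b i • z) ((app_cst J h (ModuleCat.ofHom u) hU _).trans ?_)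
  rw [← mres_cst J h M hT hU le_top, ← mres_cst J h N hT hU le_top]
  refine Eq.trans ?_ (appS_res θ _ _).symm
  exact congrArg _ (hv _)

theorem bijective_realModMap (M N : ModuleCat.{u} A) [Module.Finite A M] [IsHausdorff J N] [IsPrecomplete J N] :
    Function.Bijective (fun u : M ⟶ N =>
      ModSys.realModMap h (complModMap (idealSpec A J) ((tilde.functor (CommRingCat.of A)).map u))) :=
  ⟨fun _ _ e => injective_realModMap J h M N e, fun θ => exists_realModMap_eq J h M N θ⟩

end FCplAffLib

end
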