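import Groth.Agent.FCplAffLib.LimPresH
import Groth.Agent.FCplAffLib.Full
import Groth.Agent.AdicRingLib.Trunc

/-!
# Closedness of relations on basic opens of formal affine schemes topologically of finite type
-/

set_option autoImplicit false
set_option linter.style.haveILetI false
set_option maxHeartbeats 800000

universe u

open CategoryTheory CategoryTheory.Limits AlgebraicGeometry TopologicalSpace Opposite FSch
open FModLib (RSec oK)

noncomputable section

namespace FCplAffLib

/-- A limit of quotients by powers is the completion. -/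
theorem exists_completion_hom {C : Type u} [CommRing C] (K : Ideal C) (L : ℕ → Type u) [∀ k, CommRing (L k)]
    (t : ∀ k, L (k + 1) →+* L k) (ψ : ∀ k, C →+* L k) (hs : ∀ k, Function.Surjective (ψ k))
    (hk : ∀ k, RingHom.ker (ψ k) = K ^ (k + 1)) (hc : ∀ k c, t k (ψ (k + 1) c) = ψ k c)
    {B : Type u} [CommRing B] (pr : ∀ k, B →+* L k) (hinj : ∀ x, (∀ k, pr k x = 0) → x = 0)
    (hprc : ∀ k x, t k (pr (k + 1) x) = pr k x)
    (hlift : ∀ y : ∀ k, L k, (∀ k, t k (y (k + 1)) = y k) → ∃ x : B, ∀ k, pr k x = y k) :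
    ∃ Φ : AdicCompletion K C →+* B, Function.Bijective Φ ∧
      ∀ k x, pr k (Φ x) = 0 → AdicCompletion.evalₐ K (k + 1) x = 0 := by
  let η : ∀ k, AdicCompletion K C →+* L k := fun k =>
    (Ideal.Quotient.lift (K ^ (k + 1)) (ψ k) fun a ha => by rwa [← RingHom.mem_ker, hk]).comp
      (AdicCompletion.evalₐ K (k + 1)).toRingHom
  have hη : ∀ k a, η k (AdicCompletion.mk K C a) = ψ k (a.val (k + 1)) := fun k a => by
    simp only [η, RingHom.coe_comp, Function.comp_apply, AlgHom.toRingHom_eq_coe, RingHom.coe_coe,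
      AdicCompletion.evalₐ_mk, Ideal.Quotient.lift_mk]
  have hsub : ∀ (a : AdicCompletion.AdicCauchySequence K C) {m n : ℕ}, m ≤ n → a.val m - a.val n ∈ K ^ m :=
    fun a {m n} hmn => by
      have := SModEq.sub_mem.1 (a.property hmn)
      rwa [smul_eq_mul, Ideal.mul_top] at this
  have hηc : ∀ k x, t k (η (k + 1) x) = η k x := fun k x => by
    obtain ⟨a, rfl⟩ := AdicCompletion.mk_surjective K C x
    rw [hη, hη, hc, ← sub_eq_zero, ← map_sub, ← RingHom.mem_ker, hk, ← neg_sub]
    exact neg_mem (hsub a (Nat.le_succ _))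
  choose φ hφ using fun x => hlift (fun k => η k x) fun k => hηc k x
  have hext : ∀ x y : B, (∀ k, pr k x = pr k y) → x = y := fun x y hxy =>
    sub_eq_zero.1 (hinj _ fun k => by rw [map_sub, hxy, sub_self])
  let Φ : AdicCompletion K C →+* B :=
    { toFun := φ
      map_one' := hext _ _ fun k => by rw [hφ, map_one, map_one]
      map_mul' := fun a b => hext _ _ fun k => by rw [hφ, map_mul, map_mul, hφ, hφ]
      map_zero' := hext _ _ fun k => by rw [hφ, map_zero, map_zero]
      map_add' := fun a b => hext _ _ fun k => by rw [hφ, map_add, map_add, hφ, hφ] }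
  have hz : ∀ k x, η k x = 0 → AdicCompletion.evalₐ K (k + 1) x = 0 := fun k x hx => by
    obtain ⟨a, rfl⟩ := AdicCompletion.mk_surjective K C x
    rw [hη, ← RingHom.mem_ker, hk] at hx
    rw [AdicCompletion.evalₐ_mk]
    exact Ideal.Quotient.eq_zero_iff_mem.2 hx
  refine ⟨Φ, ⟨(injective_iff_map_eq_zero Φ).2 fun x hx => AdicCompletion.ext_evalₐ fun n => ?_, fun b => ?_⟩,
    fun k x hx => hz k x ((hφ x k).symm.trans hx)⟩
  · have h0 : ∀ k, AdicCompletion.evalₐ K (k + 1) x = 0 := fun k =>
      hz k x ((hφ x k).symm.trans ((congrArg (pr k) hx).trans (map_zero _)))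
    obtain ⟨a, rfl⟩ := AdicCompletion.mk_surjective K C x
    rw [map_zero, AdicCompletion.evalₐ_mk, Ideal.Quotient.eq_zero_iff_mem]
    have h1 := h0 n
    rw [AdicCompletion.evalₐ_mk, Ideal.Quotient.eq_zero_iff_mem] at h1
    have h2 := add_mem (Ideal.pow_le_pow_right (Nat.le_succ n) h1) (hsub a (Nat.le_succ n))
    rwa [add_sub_cancel] at h2
  · choose c hcc using fun k => hs k (pr k b)
    let a : ℕ → C := fun n => c (n - 1)
    have hstep : ∀ n, a n - a (n + 1) ∈ K ^ n := fun n => by
      cases n with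
      | zero => simp
      | succ n =>
        show c n - c (n + 1) ∈ _
        rw [← hk, RingHom.mem_ker, map_sub, hcc, ← hc n (c (n + 1)), hcc, hprc, sub_self]
    have ha : ∀ {m n : ℕ}, m ≤ n → a m - a n ∈ K ^ m := fun {m n} hmn => by
      induction n, hmn using Nat.le_induction with
      | base => simp
      | succ n hmn ih =>
        have := add_mem ih (Ideal.pow_le_pow_right hmn (hstep n))
        rwa [sub_add_sub_cancel] at this
    refine ⟨AdicCompletion.mk K C ⟨a, fun {m n} hmn => SModEq.sub_mem.2 (by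
      rw [smul_eq_mul, Ideal.mul_top]; exact ha hmn)⟩, hext _ _ fun k => ?_⟩
    refine (hφ _ k).trans ((hη k _).trans ?_)
    exact hcc k

/-- Submodules of finite free modules over a completion topologically of finite type are closed. -/
theorem relClosed_of_equiv {R : Type u} [CommRing R] {I : Ideal R} (hR : AdicRing.IsBase R I)
    {C : Type u} [CommRing C] [Algebra R C] (hC : AdicRing.TopFiniteType R I C)
    {B : Type u} [CommRing B] {L : ℕ → Type u} [∀ k, CommRing (L k)] (pr : ∀ k, B →+* L k)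
    (Φ : C →+* B) (hΦ : Function.Bijective Φ)
    (hker : ∀ k x, pr k (Φ x) = 0 → x ∈ (I ^ (k + 1)).map (algebraMap R C))
    {ι κ : Type u} [Fintype ι] [Fintype κ] (t : κ → ι → B) (b : ι → B)
    (hb : ∀ k, ∃ d : κ → B, ∀ i, pr k (b i) = pr k (∑ j, d j * t j i)) :
    ∃ d : κ → B, ∀ i, b i = ∑ j, d j * t j i := by
  classical
  choose t' ht' using fun j i => hΦ.2 (t j i)
  choose b' hb' using fun i => hΦ.2 (b i)
  let N : Submodule C (ι → C) := Submodule.span C (Set.range t')
  let Q := (ι → C) ⧸ N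
  have := AdicRingLib.isAdicComplete_topFiniteType hR hC
  have hQ := (AdicRingLib.hasAR_topFiniteType hR hC).isAdicComplete Q
  have hz : N.mkQ b' = 0 := by
    refine IsHausdorff.haus hQ.toIsHausdorff _ fun n => ?_
    rw [SModEq.zero]
    obtain ⟨d, hd⟩ := hb n
    choose d' hd' using fun j => hΦ.2 (d j)
    let v : ι → C := b' - ∑ j, d' j • t' j
    have hv : ∀ i, v i ∈ (I.map (algebraMap R C)) ^ n := fun i => by
      refine Ideal.pow_le_pow_right (Nat.le_succ n) ?_
      rw [← Ideal.map_pow]
      refine hker n _ ?_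
      simp only [v, Pi.sub_apply, Finset.sum_apply, Pi.smul_apply, smul_eq_mul, map_sub, hb', hd i, map_sum, map_mul,
        hd', ht', sub_self]
    have e : N.mkQ b' = N.mkQ v := by
      refine (Submodule.Quotient.eq N).2 ?_
      simp only [v, sub_sub_cancel]
      exact Submodule.sum_mem _ fun j _ => N.smul_mem _ (Submodule.subset_span ⟨j, rfl⟩)
    rw [e]
    have hvmem : v ∈ (I.map (algebraMap R C)) ^ n • (⊤ : Submodule C (ι → C)) := by
      rw [show v = ∑ i, v i • (Pi.single i 1 : ι → C) from pi_eq_sum_univ' v]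
      exact Submodule.sum_mem _ fun i _ => Submodule.smul_mem_smul (hv i) trivial
    have := Submodule.mem_map_of_mem (f := N.mkQ) hvmem
    rw [Submodule.map_smul'', Submodule.map_top, Submodule.range_mkQ] at this
    exact this
  rw [Submodule.mkQ_apply, Submodule.Quotient.mk_eq_zero] at hz
  obtain ⟨d, hd⟩ := (Submodule.mem_span_range_iff_exists_fun C).1 hz
  refine ⟨fun j => Φ (d j), fun i => ?_⟩
  rw [← hb' i, ← congrFun hd i]
  simp only [Finset.sum_apply, Pi.smul_apply, smul_eq_mul, map_sum, map_mul, ht']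

variable {R : Type u} [CommRing R] {I : Ideal R} {A : Type u} [CommRing A] [Algebra R A]
  (h : (completionAlong (Spec (CommRingCat.of A)) (idealSpec A (I.map (algebraMap R A)))).IsFormal)

theorem relClosed_basic (hR : AdicRing.IsBase R I) (hA : AdicRing.TopFiniteType R I A) (f : A) :
    RelClosed h (pA (I.map (algebraMap R A)) 0 ⁻¹ᵁ PrimeSpectrum.basicOpen f) := by
  intro ι κ _ _ t b hb
  let J := I.map (algebraMap R A)
  let U : (Spec (CommRingCat.of A)).Opens := PrimeSpectrum.basicOpen f
  have hU : IsAffineOpen U := isAffine_BO A _ ⟨f, rfl⟩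
  have hV : IsAffineOpen (pA J 0 ⁻¹ᵁ U) := hU.preimage (pA J 0)
  have hI := AdicRingLib.fg_of_isBase hR
  let Af := Localization.Away f
  let e : Af ≃ₐ[A] Γ(Spec (CommRingCat.of A), U) := IsLocalization.algEquiv (Submonoid.powers f) Af _
  let α : ∀ k, Γ(Spec (CommRingCat.of A), U) →+* Γ((completionAlong _ (idealSpec A J)).X k,
      (completionAlong _ (idealSpec A J)).lvU h k (pA J 0 ⁻¹ᵁ U)) := fun k =>
    ((pA J k).appLE U _ (hle h (pA J) (completionToX_comm _ _) U k)).hom
  let ψ := fun k => (α k).comp e.toRingEquiv.toRingHom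
  have hαs : ∀ k, Function.Surjective (α k) := fun k =>
    FComplLib.surjective_appLE (pA J k) _ hU _ _
      (lvU_p (completionAlong _ (idealSpec A J)) h (pA J) (completionToX_comm _ _) k U).symm
  have hKe : (I.map (algebraMap R Af)).map e.toRingEquiv.toRingHom = J.map (algebraMap A Γ(Spec (CommRingCat.of A), U)) := by
    rw [IsScalarTower.algebraMap_eq R A Af, ← Ideal.map_map, Ideal.map_map]
    exact congrArg (fun φ => Ideal.map φ J) (RingHom.ext fun a => e.commutes a)
  have hψk : ∀ k, RingHom.ker (ψ k) = I.map (algebraMap R Af) ^ (k + 1) := fun k => by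
    rw [← RingHom.comap_ker, ker_scal h (pA J) (completionToX_comm _ _) (FCohLib.ker_app_completionToX _) hU k,
      idl_eq A J U hU, ← hKe, ← Ideal.map_pow]
    exact Ideal.comap_map_of_bijective _ e.bijective
  have hψc : ∀ k c, (FModLib.secSys h _ hV).f k (ψ (k + 1) c) = ψ k c := fun k c => by
    show ((pA J (k + 1)).appLE U _ (hle h (pA J) (completionToX_comm _ _) U (k + 1)) ≫
      ((completionAlong _ (idealSpec A J)).ι k).appLE _ _ (Sys.lvU_le _ h k _)).hom (e c) = _
    rw [Scheme.Hom.appLE_comp_appLE]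
    simp only [completionToX_comm]
    rfl
  obtain ⟨Φ, hΦ, hΦk⟩ := exists_completion_hom (I.map (algebraMap R Af)) (fun k => (FModLib.secSys h _ hV).A k)
    (fun k => (FModLib.secSys h _ hV).f k) ψ (fun k => (hαs k).comp e.surjective) hψk hψc
    (fun k => ((FModLib.secSys h _ hV).proj k).comp (FModLib.toLim h _ hV))
    (fun x hx => (FModLib.toLim_bijective h _ hV).1 ((Subtype.ext (funext hx)).trans (map_zero _).symm))
    (fun k x => (FModLib.toLim h _ hV x).2 k)
    (fun y hy => by
      obtain ⟨x, hx⟩ := (FModLib.toLim_bijective h _ hV).2 ⟨y, hy⟩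
      exact ⟨x, fun k => congrArg (fun z => z.1 k) hx⟩)
  refine relClosed_of_equiv hR (AdicRingLib.topFiniteType_cLoc hI hA f)
    (fun k => ((FModLib.secSys h _ hV).proj k).comp (FModLib.toLim h _ hV)) Φ hΦ (fun k x hx => ?_) t b hb
  rw [IsScalarTower.algebraMap_eq R Af (AdicRing.CLoc I f), ← Ideal.map_map, Ideal.map_pow]
  obtain ⟨c, hc⟩ := AdicRingLib.exists_sub_mem_map_pow (hI.map (algebraMap R Af)) (k + 1) x
  have h0 := hΦk k x hx
  have h1 : AdicCompletion.evalₐ (I.map (algebraMap R Af)) (k + 1) (x - algebraMap Af _ c) = 0 := by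
    have h2 := Ideal.mem_map_of_mem (AdicCompletion.evalₐ (I.map (algebraMap R Af)) (k + 1)).toRingHom hc
    rwa [Ideal.map_map, show (AdicCompletion.evalₐ (I.map (algebraMap R Af)) (k + 1)).toRingHom.comp
      (algebraMap Af (AdicCompletion (I.map (algebraMap R Af)) Af)) = Ideal.Quotient.mk _ from
        RingHom.ext fun q => (AdicCompletion.evalₐ _ (k + 1)).commutes q, Ideal.map_quotient_self] at h2
  rw [map_sub, h0, zero_sub, neg_eq_zero, AlgHom.commutes, Ideal.Quotient.algebraMap_eq,
    Ideal.Quotient.eq_zero_iff_mem] at h1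
  have h3 := add_mem hc (Ideal.mem_map_of_mem (algebraMap Af (AdicRing.CLoc I f)) h1)
  rwa [sub_add_cancel] at h3

theorem isBasis_relClosed (hR : AdicRing.IsBase R I) (hA : AdicRing.TopFiniteType R I A) :
    Opens.IsBasis {W : ((completionAlong (Spec (CommRingCat.of A)) (idealSpec A (I.map (algebraMap R A)))).X 0).Opens |
      IsAffineOpen W ∧ RelClosed h W} := by
  refine Opens.isBasis_iff_nbhd.mpr fun {W q} hq => ?_
  obtain ⟨U, ⟨f, rfl⟩, hqU, hUW⟩ := exists_mem_basis (pA (I.map (algebraMap R A))) (BO A) (isBasis_BO A) hq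
  exact ⟨_, ⟨(isAffine_BO A _ ⟨f, rfl⟩).preimage (pA (I.map (algebraMap R A)) 0), relClosed_basic h hR hA f⟩,
    hqU, hUW⟩

end FCplAffLib

end
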