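import Groth.Agent.FCplAffLib.Module

/-!
# Coherent modules on affine formal schemes topologically of finite presentation
-/

set_option autoImplicit false
set_option linter.style.haveILetI false
set_option maxHeartbeats 800000

universe u

open CategoryTheory CategoryTheory.Limits AlgebraicGeometry TopologicalSpace Opposite FSch

noncomputable section

namespace FCplAffLib

/-- An isomorphism of limits from isomorphisms of the levels. -/
def realLimIso {𝔛 : Sys.{u}} (h : 𝔛.IsFormal) (𝔐 𝔑 : ModSys 𝔛) (e : ∀ k, 𝔐.F k ≅ 𝔑.F k)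
    (he : ∀ k, 𝔐.toPush k ≫ (Scheme.Modules.pushforward (𝔛.ι k)).map (e k).hom = (e (k + 1)).hom ≫ 𝔑.toPush k) :
    𝔐.realMod h ≅ 𝔑.realMod h where
  hom := realLimMap 𝔛 h (fun k => (e k).hom) he
  inv := realLimMap 𝔛 h (fun k => (e k).inv) fun k => by
    rw [← cancel_epi (e (k + 1)).hom, ← Category.assoc, ← he k, Category.assoc, ← Functor.map_comp,
      Iso.hom_inv_id, CategoryTheory.Functor.map_id, Category.comp_id, ← Category.assoc, Iso.hom_inv_id,
      Category.id_comp]
  hom_inv_id := limit.hom_ext fun ⟨k⟩ => by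
    change (realLimMap 𝔛 h _ _ ≫ realLimMap 𝔛 h _ _) ≫ realProj 𝔛 h 𝔐.F 𝔐.toPush k = 𝟙 _ ≫ realProj 𝔛 h 𝔐.F 𝔐.toPush k
    rw [Category.assoc, realLimMap_realProj, realLimMap_realProj_assoc]
    refine Eq.trans (congrArg (fun q => realProj 𝔛 h 𝔐.F 𝔐.toPush k ≫ q)
      (((levelMor 𝔛 h k).push.map_comp (e k).hom (e k).inv).symm.trans
        ((congrArg ((levelMor 𝔛 h k).push.map) (e k).hom_inv_id).trans ((levelMor 𝔛 h k).push.map_id _)))) ?_
    exact (Category.comp_id _).trans (Category.id_comp _).symm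
  inv_hom_id := limit.hom_ext fun ⟨k⟩ => by
    change (realLimMap 𝔛 h _ _ ≫ realLimMap 𝔛 h _ _) ≫ realProj 𝔛 h 𝔑.F 𝔑.toPush k = 𝟙 _ ≫ realProj 𝔛 h 𝔑.F 𝔑.toPush k
    rw [Category.assoc, realLimMap_realProj, realLimMap_realProj_assoc]
    refine Eq.trans (congrArg (fun q => realProj 𝔛 h 𝔑.F 𝔑.toPush k ≫ q)
      (((levelMor 𝔛 h k).push.map_comp (e k).inv (e k).hom).symm.trans
        ((congrArg ((levelMor 𝔛 h k).push.map) (e k).inv_hom_id).trans ((levelMor 𝔛 h k).push.map_id _)))) ?_
    exact (Category.comp_id _).trans (Category.id_comp _).symm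

theorem exists_iso_realMod {R : Type u} [CommRing R] {I : Ideal R} {A : Type u} [CommRing A] [Algebra R A]
    (hR : AdicRing.IsBase R I) (hA : AdicRing.TopFiniteType R I A)
    (h : (completionAlong (Spec (CommRingCat.of A)) (idealSpec A (I.map (algebraMap R A)))).IsFormal)
    (F : ModF (completionAlong (Spec (CommRingCat.of A)) (idealSpec A (I.map (algebraMap R A)))) h)
    (hF : IsCohF (completionAlong (Spec (CommRingCat.of A)) (idealSpec A (I.map (algebraMap R A)))) h F) :
    ∃ M : ModuleCat.{u} A, Module.FinitePresentation A M ∧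
      Nonempty (F ≅ (FCohLib.resSys (pA (I.map (algebraMap R A)))
        (completionToX_comm (Spec (CommRingCat.of A)) (idealSpec A (I.map (algebraMap R A)))) (TM M)).realMod h) := by
  have := AdicRingLib.isAdicComplete_topFiniteType hR hA
  have hη := isIso_etaH h F hF (isBasis_relClosed h hR hA)
  have hfp : ∀ k, CohB1.IsFP ((levSysH h F).F k) := fun k => @FModLib.isFP_lev _ h F hF k
  haveI : ∀ k, Coh.IsQCoh ((levSysH h F).F k) := fun k => (FModLib.isCoh_lev h F hF k).1
  obtain ⟨M, hfin, htr, e, he⟩ := exists_iso_resSys (I.map (algebraMap R A)) h (levSysH h F)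
    ((AdicRingLib.fg_of_isBase hR).map _) hfp
  exact ⟨M, finitePresentation_of_trunc hR hA M htr,
    ⟨@asIso _ _ _ _ (etaH h F) hη ≪≫ (realLimIso h _ _ e he).symm⟩⟩

end FCplAffLib

end
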