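import Groth.Agent.FCplAffLib.Sec
import Groth.Agent.FCohLib.Exact
import Groth.Agent.QCohLib.Vanishing
import Groth.Agent.ModSiteLib.FreeGen

/-!
# Exactness of completion given uniform Artin-Rees on a basis
-/

set_option autoImplicit false
set_option linter.style.haveILetI false
set_option maxHeartbeats 800000

universe u

open CategoryTheory CategoryTheory.Limits AlgebraicGeometry TopologicalSpace Opposite FSch
open FModLib (MSec RSec oK mres)
open FCohLib (resSys rp lvT rp_ext exists_rp rp_succ)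

noncomputable section

namespace FCplAffLib

variable {𝔛 : Sys.{u}} (h : 𝔛.IsFormal) {Y : Scheme.{u}} (p : ∀ n, 𝔛.X n ⟶ Y) (hp : ∀ n, 𝔛.ι n ≫ p (n + 1) = p n)
  [∀ n, IsClosedImmersion (p n)]
  (hpow : ∀ k (U : Y.affineOpens),
    RingHom.ker ((p k).app U.1).hom = RingHom.ker ((p 0).app U.1).hom ^ (k + 1))

/-- Uniform Artin-Rees for the submodules of the sections over an open. -/
def ARSec (F : Y.Modules) (U : Y.Opens) : Prop :=
  ∀ N : Submodule Γ(Y, U) Γ(F, U), ∃ n₀ : ℕ, ∀ m,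
    idl p U ^ (m + n₀) • (⊤ : Submodule Γ(Y, U) Γ(F, U)) ⊓ N ≤ idl p U ^ m • N

omit [∀ n, IsClosedImmersion (p n)] in
theorem compat_sub_mem (F : Y.Modules) {U : Y.Opens} {a : ℕ → Γ(F, U)} (ha : Compat p F U a) (k d : ℕ) :
    a (k + d) - a k ∈ idl p U ^ (k + 1) • (⊤ : Submodule Γ(Y, U) Γ(F, U)) := by
  induction d with
  | zero => simp
  | succ d ih =>
    have h1 : a (k + d + 1) - a (k + d) ∈ idl p U ^ (k + 1) • (⊤ : Submodule Γ(Y, U) Γ(F, U)) :=
      Submodule.smul_mono (Ideal.pow_le_pow_right (by omega)) le_rfl (ha (k + d))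
    have h2 := add_mem h1 ih
    rwa [sub_add_sub_cancel] at h2

/-- The map on sections, as a linear map. -/
abbrev appLin {F G : Y.Modules} (φ : F ⟶ G) (U : Y.Opens) : Γ(F, U) →ₗ[Γ(Y, U)] Γ(G, U) where
  toFun := φ.app U
  map_add' := map_add _
  map_smul' r m := φ.app_smul r m

omit [∀ n, IsClosedImmersion (p n)] in
theorem mem_smul_of_app_mem {F G : Y.Modules} (φ : F ⟶ G) {U : Y.Opens}
    (hinj : Function.Injective (appLin φ U)) {n₀ : ℕ}
    (hAR : ∀ m, idl p U ^ (m + n₀) • (⊤ : Submodule Γ(Y, U) Γ(G, U)) ⊓ LinearMap.range (appLin φ U) ≤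
      idl p U ^ m • LinearMap.range (appLin φ U))
    {a : Γ(F, U)} {m : ℕ} (ha : appLin φ U a ∈ idl p U ^ (m + n₀) • (⊤ : Submodule Γ(Y, U) Γ(G, U))) :
    a ∈ idl p U ^ m • (⊤ : Submodule Γ(Y, U) Γ(F, U)) := by
  have h2 := hAR m ⟨ha, ⟨a, rfl⟩⟩
  rw [LinearMap.range_eq_map, ← Submodule.map_smul''] at h2
  obtain ⟨a', ha', he⟩ := h2
  obtain rfl := hinj he
  exact ha'

variable (B : Set Y.Opens) (hBb : Opens.IsBasis B) (hBa : ∀ U ∈ B, IsAffineOpen U)

include hBb in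
omit [∀ n, IsClosedImmersion (p n)] in
theorem exists_mem_basis [IsClosedImmersion (p 0)] {W : (𝔛.X 0).Opens} {q : 𝔛.X 0} (hq : q ∈ W) :
    ∃ U ∈ B, q ∈ p 0 ⁻¹ᵁ U ∧ p 0 ⁻¹ᵁ U ≤ W := by
  obtain ⟨O, hO, hOW⟩ := (p 0).isClosedEmbedding.toIsEmbedding.isInducing.isOpen_iff.mp W.isOpen
  have hqO : (p 0) q ∈ O := by rw [← Set.mem_preimage, hOW]; exact hq
  obtain ⟨U, hU, hqU, hUO⟩ := Opens.isBasis_iff_nbhd.mp hBb (U := ⟨O, hO⟩) (x := (p 0) q) hqO
  refine ⟨U, hU, hqU, fun x hx => ?_⟩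
  have : x ∈ (p 0) ⁻¹' O := hUO hx
  rwa [hOW] at this

variable {F G H : Y.Modules} [Coh.IsQCoh F] [Coh.IsQCoh G] [Coh.IsQCoh H]
  (φ : F ⟶ G) (ψ : resSys p hp F ⟶ resSys p hp G)
  (hψ : ∀ k, ψ.app k = (Scheme.Modules.pullback (p k)).map φ)
  (π : G ⟶ H) (χ : resSys p hp G ⟶ resSys p hp H)
  (hχ : ∀ k, χ.app k = (Scheme.Modules.pullback (p k)).map π)

include hψ hpow in
omit [Coh.IsQCoh H] in
theorem eq_zero_of_app [Mono φ] {U : Y.Opens} (hU : IsAffineOpen U) (hAR : ARSec p G U)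
    (x : MSec ((resSys p hp F).realMod h) (p 0 ⁻¹ᵁ U))
    (hx : (ModSys.realModMap h ψ).val.app (op (p 0 ⁻¹ᵁ U)) x = 0) : x = 0 := by
  obtain ⟨a, ha, hax⟩ := exists_seq h p hp hpow F hU x
  obtain ⟨n₀, hn₀⟩ := hAR (LinearMap.range (appLin φ U))
  refine rp_ext h _ _ fun k => ?_
  refine (hax k).trans (Eq.trans ?_ (map_zero _).symm)
  have h1 : tk h p hp G U (k + n₀) (φ.app U (a (k + n₀))) = 0 :=
    (rp_app h p hp φ ψ hψ U (k + n₀) x _ (hax _)).symm.trans ((congrArg (rp h _ _ _ _) hx).trans (map_zero _))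
  have h2 := ((tk_spec h p hp hpow G hU _).2 _).1 h1
  rw [show k + n₀ + 1 = k + 1 + n₀ by omega] at h2
  have h3 := mem_smul_of_app_mem p φ (QCohLib.app_injective_of_mono φ U) hn₀ h2
  refine ((tk_spec h p hp hpow F hU k).2 _).2 ?_
  have h4 := sub_mem h3 (compat_sub_mem p F ha k n₀)
  rwa [sub_sub_cancel] at h4

include hψ hpow hBb hBa in
omit [Coh.IsQCoh H] in
/-- Completion preserves monomorphisms. -/
theorem mono_realModMap [Mono φ] (hAR : ∀ U ∈ B, ARSec p G U) : Mono (ModSys.realModMap h ψ) := by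
  have hinj : ∀ (W : (𝔛.X 0).Opens) (s : MSec ((resSys p hp F).realMod h) W),
      (ModSys.realModMap h ψ).val.app (op W) s = 0 → s = 0 := by
    intro W s hs
    refine FCohLib.eq_zero_of_points _ s fun q hq => ?_
    obtain ⟨U, hUB, hqU, hUW⟩ := exists_mem_basis p B hBb hq
    refine ⟨p 0 ⁻¹ᵁ U, hUW, hqU, eq_zero_of_app h p hp hpow φ ψ hψ (hBa U hUB) (hAR U hUB) _ ?_⟩
    exact (PresheafOfModules.naturality_apply (ModSys.realModMap h ψ).val (homOfLE hUW).op s).trans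
      ((congrArg (mres _ hUW) hs).trans (map_zero _))
  refine ⟨fun {P} a b e => SheafOfModules.hom_ext (PresheafOfModules.hom_ext fun W =>
    ModuleCat.hom_ext (LinearMap.ext fun x => ?_))⟩
  refine sub_eq_zero.1 (hinj W.unop _ ((map_sub ((ModSys.realModMap h ψ).val.app W).hom _ _).trans (sub_eq_zero.2 ?_)))
  exact congr($(congrArg (fun g : P ⟶ _ => g.val.app W) e) x)

include hψ hχ hpow in
theorem exists_preimage_app [Mono φ] (w : φ ≫ π = 0) (hex : (ShortComplex.mk φ π w).Exact)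
    {U : Y.Opens} (hU : IsAffineOpen U) (hsurj : Function.Surjective (appLin π U)) (hAR : ARSec p G U)
    (x : MSec ((resSys p hp G).realMod h) (p 0 ⁻¹ᵁ U))
    (hx : (ModSys.realModMap h χ).val.app (op (p 0 ⁻¹ᵁ U)) x = 0) :
    ∃ y : MSec ((resSys p hp F).realMod h) (p 0 ⁻¹ᵁ U),
      (ModSys.realModMap h ψ).val.app (op (p 0 ⁻¹ᵁ U)) y = x := by
  let R := Γ(Y, U)
  let I := idl p U
  obtain ⟨a, ha, hax⟩ := exists_seq h p hp hpow G hU x
  have hgen : ∀ k, ∃ c : Γ(F, U), φ.app U c - a k ∈ I ^ (k + 1) • (⊤ : Submodule R Γ(G, U)) := by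
    intro k
    have h1 : tk h p hp H U k (π.app U (a k)) = 0 :=
      (rp_app h p hp π χ hχ U k x _ (hax _)).symm.trans ((congrArg (rp h _ _ _ _) hx).trans (map_zero _))
    have h2 : appLin π U (a k) ∈ I ^ (k + 1) • (⊤ : Submodule R Γ(H, U)) := ((tk_spec h p hp hpow H hU _).2 _).1 h1
    rw [← LinearMap.range_eq_top.2 hsurj, LinearMap.range_eq_map, ← Submodule.map_smul''] at h2
    obtain ⟨b, hb, hbe⟩ := h2
    obtain ⟨c, hc⟩ := QCohLib.exists_of_app_eq_zero hex ‹Mono φ› (U := U) (a k - b)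
      ((map_sub (appLin π U) _ _).trans (sub_eq_zero.2 hbe.symm))
    exact ⟨c, by rw [show φ.app U c = a k - b from hc, sub_sub_cancel_left]; exact neg_mem hb⟩
  choose c hc using hgen
  obtain ⟨n₀, hn₀⟩ := hAR (LinearMap.range (appLin φ U))
  have hcc : Compat p F U fun k => c (k + n₀) := by
    intro k
    refine mem_smul_of_app_mem p φ (QCohLib.app_injective_of_mono φ U) hn₀ (m := k + 1) ?_
    show appLin φ U (c (k + 1 + n₀) - c (k + n₀)) ∈ _
    rw [show k + 1 + n₀ = k + n₀ + 1 by omega, map_sub]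
    have h1 : φ.app U (c (k + n₀ + 1)) - a (k + n₀ + 1) ∈ I ^ (k + n₀ + 1) • (⊤ : Submodule R Γ(G, U)) :=
      Submodule.smul_mono (Ideal.pow_le_pow_right (by omega)) le_rfl (hc (k + n₀ + 1))
    have h2 := sub_mem (add_mem h1 (ha (k + n₀))) (hc (k + n₀))
    have e : φ.app U (c (k + n₀ + 1)) - a (k + n₀ + 1) + (a (k + n₀ + 1) - a (k + n₀)) -
        (φ.app U (c (k + n₀)) - a (k + n₀)) = appLin φ U (c (k + n₀ + 1)) - appLin φ U (c (k + n₀)) := by
      show _ = φ.app U _ - φ.app U _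
      abel
    exact e ▸ h2
  obtain ⟨y, hy⟩ := exists_sec h p hp hpow F hU _ hcc
  refine ⟨y, rp_ext h _ _ fun k => ?_⟩
  rw [rp_app h p hp φ ψ hψ U k y _ (hy k), hax k]
  refine tk_congr h p hp hpow G hU k ?_
  have h1 : φ.app U (c (k + n₀)) - a (k + n₀) ∈ I ^ (k + 1) • (⊤ : Submodule R Γ(G, U)) :=
    Submodule.smul_mono (Ideal.pow_le_pow_right (by omega)) le_rfl (hc (k + n₀))
  have h2 := add_mem h1 (compat_sub_mem p G ha k n₀)
  rwa [sub_add_sub_cancel] at h2

include hχ hpow in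
omit [Coh.IsQCoh F] in
theorem exists_preimage_surj {U : Y.Opens} (hU : IsAffineOpen U) (hsurj : Function.Surjective (appLin π U))
    (t : MSec ((resSys p hp H).realMod h) (p 0 ⁻¹ᵁ U)) :
    ∃ x : MSec ((resSys p hp G).realMod h) (p 0 ⁻¹ᵁ U),
      (ModSys.realModMap h χ).val.app (op (p 0 ⁻¹ᵁ U)) x = t := by
  let R := Γ(Y, U)
  let I := idl p U
  obtain ⟨b, hb, hbt⟩ := exists_seq h p hp hpow H hU t
  have hd : ∀ k, ∃ d ∈ I ^ (k + 1) • (⊤ : Submodule R Γ(G, U)), appLin π U d = b (k + 1) - b k := fun k => by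
    have h2 := hb k
    rw [← LinearMap.range_eq_top.2 hsurj, LinearMap.range_eq_map, ← Submodule.map_smul''] at h2
    exact h2
  choose d hd1 hd2 using hd
  obtain ⟨a₀, ha₀⟩ := hsurj (b 0)
  let a : ℕ → Γ(G, U) := fun k => a₀ + ∑ i ∈ Finset.range k, d i
  have ha : ∀ k, appLin π U (a k) = b k := by
    intro k
    simp only [a, map_add, map_sum, ha₀, hd2]
    rw [Finset.sum_range_sub, add_sub_cancel]
  have hac : Compat p G U a := fun k => by
    simp only [a, Finset.sum_range_succ, add_sub_add_left_eq_sub, add_sub_cancel_left]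
    exact hd1 k
  obtain ⟨x, hx⟩ := exists_sec h p hp hpow G hU a hac
  refine ⟨x, rp_ext h _ _ fun k => ?_⟩
  rw [rp_app h p hp π χ hχ U k x _ (hx k), hbt k]
  exact congrArg _ (ha k)

omit [Coh.IsQCoh F] in
include hBb hBa hχ hpow in
/-- Completion preserves epimorphisms which are surjective on the basis. -/
theorem epi_realModMap (hsurj : ∀ U ∈ B, Function.Surjective (appLin π U)) : Epi (ModSys.realModMap h χ) := by
  refine _root_.ModSiteLib.epi_of_loc_surjective (ModSys.realModMap h χ) fun W t => ?_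
  let θ := ModSys.realModMap h χ
  let S : Sieve W :=
    ⟨fun W' => {g : W' ⟶ W | ∃ y, θ.val.app (op W') y = ((resSys p hp H).realMod h).val.map g.op t}, fun {W' W''} g hg k => by
      obtain ⟨y, hy⟩ := hg
      refine ⟨((resSys p hp G).realMod h).val.map k.op y, (PresheafOfModules.naturality_apply θ.val k.op y).trans ?_⟩
      exact (congrArg (((resSys p hp H).realMod h).val.map k.op) hy).trans
        (((resSys p hp H).realMod h).val.presheaf.map_comp_apply g.op k.op t).symm⟩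
  refine ⟨S, fun q hq => ?_, fun _ _ hg => hg⟩
  obtain ⟨U, hUB, hqU, hUW⟩ := exists_mem_basis p B hBb hq
  exact ⟨p 0 ⁻¹ᵁ U, homOfLE hUW,
    exists_preimage_surj h p hp hpow π χ hχ (hBa U hUB) (hsurj U hUB) _, hqU⟩

include hBb hBa hψ hχ hpow in
/-- Completion preserves short exact sequences. -/
theorem shortExact_realModMap (w : φ ≫ π = 0) (hS : (ShortComplex.mk φ π w).ShortExact)
    (hAR : ∀ U ∈ B, ARSec p G U)
    (w' : ModSys.realModMap h ψ ≫ ModSys.realModMap h χ = 0) :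
    (ShortComplex.mk _ _ w').ShortExact := by
  have := hS.mono_f
  have : Mono φ := hS.mono_f
  have hsurj : ∀ U ∈ B, Function.Surjective (appLin π U) := fun U hU =>
    @QCohLib.app_surjective_of_affine _ _ hS ‹Coh.IsQCoh F› U (hBa U hU)
  have hm := mono_realModMap h p hp hpow B hBb hBa φ ψ hψ hAR
  refine { exact := ?_, mono_f := hm, epi_g := epi_realModMap h p hp hpow B hBb hBa π χ hχ hsurj }
  rw [ShortComplex.exact_iff_epi_kernel_lift]
  let S' := ShortComplex.mk (ModSys.realModMap h ψ) (ModSys.realModMap h χ) w'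
  let θ := kernel.lift S'.g S'.f S'.zero
  let i := kernel.ι S'.g
  refine _root_.ModSiteLib.epi_of_loc_surjective θ fun W t => ?_
  let S : Sieve W :=
    ⟨fun W' => {g : W' ⟶ W | ∃ y, θ.val.app (op W') y = (kernel S'.g).val.map g.op t}, fun {W' W''} g hg k => by
      obtain ⟨y, hy⟩ := hg
      refine ⟨((resSys p hp F).realMod h).val.map k.op y, (PresheafOfModules.naturality_apply θ.val k.op y).trans ?_⟩
      exact (congrArg ((kernel S'.g).val.map k.op) hy).trans ((kernel S'.g).val.presheaf.map_comp_apply g.op k.op t).symm⟩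
  refine ⟨S, fun q hq => ?_, fun _ _ hg => hg⟩
  obtain ⟨U, hUB, hqU, hUW⟩ := exists_mem_basis p B hBb hq
  let V := p 0 ⁻¹ᵁ U
  let t' := (kernel S'.g).val.map (homOfLE hUW).op t
  have hz : (ModSys.realModMap h χ).val.app (op V) (i.val.app (op V) t') = 0 :=
    congr($(congrArg (fun g : kernel S'.g ⟶ _ => g.val.app (op V)) (kernel.condition S'.g)) t')
  obtain ⟨y, hy⟩ := exists_preimage_app h p hp hpow φ ψ hψ π χ hχ w hS.exact (hBa U hUB) (hsurj U hUB) (hAR U hUB) _ hz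
  refine ⟨V, homOfLE hUW, ⟨y, ?_⟩, hqU⟩
  have hinj : Function.Injective (i.val.app (op V)) := by
    have : Mono i := inferInstanceAs (Mono (kernel.ι S'.g))
    exact (ModuleCat.mono_iff_injective _).1 ((SheafOfModules.evaluation _ (op V)).map_mono i)
  refine hinj (Eq.trans ?_ hy)
  exact congr($(congrArg (fun g : (resSys p hp F).realMod h ⟶ _ => g.val.app (op V)) (kernel.lift_ι S'.g S'.f S'.zero)) y)

end FCplAffLib

end
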