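import Groth.Agent.AdicRingLib.Base
import Groth.Agent.CompleteLib.ModuleLimit
import Mathlib.Algebra.Module.FinitePresentation

/-!
# Finite presentation from truncations
-/

set_option autoImplicit false

universe u

noncomputable section

namespace FCplAffLib

variable {R : Type u} [CommRing R] {I : Ideal R} {A : Type u} [CommRing A] [Algebra R A]

/-- The saturation of a submodule with respect to an ideal. -/
def satMod {M : Type u} [AddCommGroup M] [Module A M] [Module R M] [IsScalarTower R A M] (I : Ideal R)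
    (K : Submodule A M) : Submodule A M where
  carrier := {x | ∃ n : ℕ, ∀ a ∈ I ^ n, a • x ∈ K}
  zero_mem' := ⟨0, fun a _ => by simp⟩
  add_mem' := fun {x y} ⟨m, hm⟩ ⟨n, hn⟩ => ⟨max m n, fun a ha => by
    rw [smul_add]
    exact add_mem (hm a (Ideal.pow_le_pow_right (le_max_left _ _) ha))
      (hn a (Ideal.pow_le_pow_right (le_max_right _ _) ha))⟩
  smul_mem' := fun c x ⟨n, hn⟩ => ⟨n, fun a ha => by
    rw [smul_comm]
    exact K.smul_mem c (hn a ha)⟩

theorem exists_uniform {M : Type u} [AddCommGroup M] [Module A M] [Module R M] [IsScalarTower R A M]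
    (K : Submodule A M) {P : Submodule A M} (hP : P.FG) (h : P ≤ satMod I K) :
    ∃ N : ℕ, ∀ x ∈ P, ∀ a ∈ I ^ N, a • x ∈ K := by
  classical
  obtain ⟨s, hs⟩ := hP
  choose n hn using fun x : s => h (hs ▸ Submodule.subset_span x.2)
  refine ⟨Finset.univ.sup n, fun x hx a ha => ?_⟩
  rw [← hs] at hx
  induction hx using Submodule.span_induction with
  | mem y hy => exact hn ⟨y, hy⟩ a (Ideal.pow_le_pow_right (Finset.le_sup (Finset.mem_univ _)) ha)
  | zero => simp
  | add y z _ _ hy hz => rw [smul_add]; exact add_mem hy hz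
  | smul c y _ hy => rw [smul_comm]; exact K.smul_mem c hy

theorem satMod_sat (hI : I.FG) {M : Type u} [AddCommGroup M] [Module A M] [Module R M] [IsScalarTower R A M]
    (K : Submodule A M) (x : M) (n : ℕ) (h : ∀ a ∈ I ^ n, a • x ∈ satMod I K) : x ∈ satMod I K := by
  classical
  obtain ⟨s, hs⟩ : (I ^ n).FG := hI.pow
  have hf : (Submodule.span A ((fun a => a • x) '' (s : Set R))).FG := Submodule.fg_span (s.finite_toSet.image _)
  obtain ⟨N, hN⟩ := exists_uniform K hf (Submodule.span_le.2 (by
    rintro _ ⟨a, ha, rfl⟩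
    exact h a (hs ▸ Submodule.subset_span ha)))
  refine ⟨N + n, fun a ha => ?_⟩
  rw [pow_add] at ha
  refine Submodule.mul_induction_on ha (fun b hb c hc => ?_) fun u v hu hv => by rw [add_smul]; exact add_mem hu hv
  rw [mul_smul]
  refine hN _ ?_ b hb
  rw [← hs] at hc
  induction hc using Submodule.span_induction with
  | mem y hy => exact Submodule.subset_span ⟨y, hy, rfl⟩
  | zero => simp
  | add y z _ _ hy hz => rw [add_smul]; exact add_mem hy hz
  | smul c y _ hy => rw [smul_assoc]; exact Submodule.smul_of_tower_mem _ c hy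

/-- **A finite module with finitely presented truncations is finitely presented.** -/
theorem finitePresentation_of_trunc (hR : AdicRing.IsBase R I) (hA : AdicRing.TopFiniteType R I A)
    (M : Type u) [AddCommGroup M] [Module A M] [Module.Finite A M]
    (h : ∀ k : ℕ, Module.FinitePresentation A (M ⧸ (I.map (algebraMap R A)) ^ (k + 1) • (⊤ : Submodule A M))) :
    Module.FinitePresentation A M := by
  classical
  have hI := AdicRingLib.fg_of_isBase hR
  let J := I.map (algebraMap R A)
  obtain ⟨r, q, hq⟩ := Module.Finite.exists_fin' A M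
  let K := LinearMap.ker q
  let S := satMod I K
  have hS : S.FG := AdicRingLib.fg_of_saturated hR hA A (Fin r → A) S (satMod_sat hI K)
  obtain ⟨N, hN⟩ := exists_uniform K hS le_rfl
  have hJS : J ^ N • S ≤ K := by
    rw [Submodule.smul_le]
    intro c hc x hx
    rw [← Ideal.map_pow] at hc
    induction hc using Submodule.span_induction with
    | mem y hy =>
      obtain ⟨a, ha, rfl⟩ := hy
      rw [algebraMap_smul]
      exact hN x hx a ha
    | zero => simp
    | add y z _ _ hy hz => rw [add_smul]; exact add_mem hy hz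
    | smul c y _ hy => rw [smul_eq_mul, mul_smul]; exact K.smul_mem c hy
  obtain ⟨N₀, hN₀, -, n₀, hAR⟩ := AdicRingLib.hasAR_topFiniteType hR hA (Fin r → A) S
  let P := J ^ (N + n₀ + 1) • (⊤ : Submodule A M)
  have := h (N + n₀)
  have hK' : (LinearMap.ker (P.mkQ ∘ₗ q)).FG :=
    Module.FinitePresentation.fg_ker _ ((Submodule.mkQ_surjective P).comp hq)
  refine Module.finitePresentation_of_surjective q hq ?_
  obtain ⟨s, hs⟩ := hK'
  have hsplit : ∀ g : s, ∃ k ∈ K, (g : Fin r → A) - k ∈ J ^ (N + n₀ + 1) • (⊤ : Submodule A (Fin r → A)) := fun g => by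
    have hg : (g : Fin r → A) ∈ LinearMap.ker (P.mkQ ∘ₗ q) := hs ▸ Submodule.subset_span g.2
    rw [LinearMap.mem_ker, LinearMap.comp_apply, Submodule.mkQ_apply, Submodule.Quotient.mk_eq_zero] at hg
    simp only [P] at hg
    rw [← LinearMap.range_eq_top.2 hq, LinearMap.range_eq_map, ← Submodule.map_smul''] at hg
    obtain ⟨j, hj, hje⟩ := hg
    exact ⟨g - j, LinearMap.mem_ker.2 (by rw [map_sub, hje, sub_self]), by rwa [sub_sub_cancel]⟩
  choose k hk hkj using hsplit
  have heq : K = Submodule.span A (Set.range k) ⊔ J ^ N • S := by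
    refine le_antisymm (fun x hx => ?_) (sup_le (Submodule.span_le.2 (by rintro _ ⟨g, rfl⟩; exact hk g)) hJS)
    have hx' : x ∈ LinearMap.ker (P.mkQ ∘ₗ q) := by
      rw [LinearMap.mem_ker, LinearMap.comp_apply, show q x = 0 from hx, map_zero]
    rw [← hs, ← Subtype.range_coe (s := (s : Set (Fin r → A))), Submodule.mem_span_range_iff_exists_fun] at hx'
    obtain ⟨c, hc⟩ := hx'
    refine Submodule.mem_sup.2 ⟨∑ g, c g • k g, Submodule.sum_mem _ fun g _ =>
      Submodule.smul_mem _ _ (Submodule.subset_span ⟨g, rfl⟩), ∑ g, c g • ((g : Fin r → A) - k g), ?_, ?_⟩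
    · refine Submodule.smul_mono le_rfl hN₀ (hAR N ⟨?_, ?_⟩)
      · exact Submodule.smul_mono (Ideal.pow_le_pow_right (by omega)) le_rfl
          (Submodule.sum_mem _ fun g _ => Submodule.smul_mem _ _ (hkj g))
      · refine (show K ≤ S from fun y hy => ⟨0, fun a _ => ?_⟩) ?_
        · rw [← algebraMap_smul A a y]; exact K.smul_mem _ hy
        · rw [show ∑ g, c g • ((g : Fin r → A) - k g) = x - ∑ g, c g • k g by
            rw [← hc]; simp [smul_sub]]
          exact sub_mem hx (Submodule.sum_mem _ fun g _ => K.smul_mem _ (hk g))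
    · rw [← hc]; simp [smul_sub]
  rw [show LinearMap.ker q = K from rfl, heq]
  exact Submodule.FG.sup (Submodule.fg_span (Set.finite_range k)) (Submodule.FG.smul (hI.map _).pow hS)

end FCplAffLib

end
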