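import Groth.Agent.FCohLib.CohIso

/-!
# Limits of presented systems on formal schemes with closed relations
-/

set_option autoImplicit false
set_option linter.style.haveILetI false
set_option maxHeartbeats 800000

universe u

open CategoryTheory CategoryTheory.Limits AlgebraicGeometry TopologicalSpace Opposite FSch
open FModLib (MSec RSec oK mres rres lc LocPres)
open FCohLib (rp lvT rp_ext rp_mres rp_succ rp_smul)

noncomputable section

namespace FCplAffLib

/-- The projection from sections of the structure sheaf is surjective on affine opens. -/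
theorem oK_surjH {𝔛 : Sys.{u}} (h : 𝔛.IsFormal) {V : (𝔛.X 0).Opens} (hV : IsAffineOpen V) (k : ℕ) :
    Function.Surjective (oK h k V) := fun c => by
  obtain ⟨x, hx⟩ := (FModLib.secSys h V hV).proj_surjective k c
  obtain ⟨b, rfl⟩ := (FModLib.toLim_bijective h V hV).2 x
  exact ⟨b, hx⟩

/-- Finitely generated relation modules over the open are closed. -/
def RelClosed {𝔛 : Sys.{u}} (h : 𝔛.IsFormal) (V : (𝔛.X 0).Opens) : Prop :=
  ∀ {ι κ : Type u} [Fintype ι] [Fintype κ] (t : κ → ι → RSec (𝔛.Osh h) V) (b : ι → RSec (𝔛.Osh h) V),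
    (∀ k, ∃ d : κ → RSec (𝔛.Osh h) V, ∀ i, oK h k V (b i) = oK h k V (∑ j, d j * t j i)) →
      ∃ d : κ → RSec (𝔛.Osh h) V, ∀ i, b i = ∑ j, d j * t j i

section Pres

variable {𝔛 : Sys.{u}} (h : 𝔛.IsFormal) (G : ∀ k, (𝔛.X k).Modules)
  (t : ∀ k, G (k + 1) ⟶ (Scheme.Modules.pushforward (𝔛.ι k)).obj (G k))
  {U : (𝔛.X 0).Opens} {ι κ : Type u} [Fintype ι] [Fintype κ]
  (e : ι → MSec (realLim 𝔛 h G t) U) (r : κ → ι → RSec (𝔛.Osh h) U)

/-- Presentations of all levels. -/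
def PresLevH : Prop :=
  ∀ k, LocPres (O := (𝔛.X k).sheaf) (G k) (𝔛.lvU h k U) (fun i => rp h G t k U (e i))
    fun j i => oK h k U (r j i)

variable {e r}

theorem rp_lc (k : ℕ) {V : (𝔛.X 0).Opens} (hVU : V ≤ U) (e : ι → MSec (realLim 𝔛 h G t) U)
    (b : ι → RSec (𝔛.Osh h) V) :
    rp h G t k V (lc (realLim 𝔛 h G t) hVU e b) =
      lc (O := (𝔛.X k).sheaf) (G k) ((Opens.map (𝔛.gInv h k)).monotone hVU) (fun i => rp h G t k U (e i))
        fun i => oK h k V (b i) := by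
  refine (map_sum ((realProj 𝔛 h G t k).val.app (op V)).hom _ _).trans (Finset.sum_congr rfl fun i _ => ?_)
  exact (rp_smul h G t k (b i) _).trans
    (congrArg (fun z : MSec (G k) (𝔛.lvU h k V) => oK h k V (b i) • z) (rp_mres h G t k hVU (e i)))

theorem rel_real (P : PresLevH h G t e r) (j : κ) : lc (realLim 𝔛 h G t) le_rfl e (r j) = 0 :=
  rp_ext h G t fun k =>
    (rp_lc h G t k le_rfl e (r j)).trans (((P k).rel j).trans (map_zero _).symm)

theorem lc_add_rel {V : (𝔛.X 0).Opens} (hVU : V ≤ U) (P : PresLevH h G t e r) (a : ι → RSec (𝔛.Osh h) V)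
    (d : κ → RSec (𝔛.Osh h) V) :
    lc (realLim 𝔛 h G t) hVU e (a + fun i => ∑ j, d j * rres (𝔛.Osh h) hVU (r j i)) =
      lc (realLim 𝔛 h G t) hVU e a :=
  FCohLib.lc_add_relations (realLim 𝔛 h G t) hVU e r (rel_real h G t P) a d

variable [∀ k, Coh.IsQCoh (G k)] {V : (𝔛.X 0).Opens} (hV : IsAffineOpen V) (hVU : V ≤ U)

include hV hVU in
theorem exists_genLev (P : PresLevH h G t e r) (k : ℕ) (m : MSec (G k) (𝔛.lvU h k V)) :
    ∃ b : ι → RSec (𝔛.Osh h) V, rp h G t k V (lc (realLim 𝔛 h G t) hVU e b) = m := by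
  have hW := (Opens.map (𝔛.gInv h k)).monotone hVU
  obtain ⟨c, hc⟩ := FModLib.exists_comb_of_local (G k) (FModLib.isAffineOpen_lvU h hV k) (ι := PUnit.{u + 1})
    (fun i _ => mres (O := (𝔛.X k).sheaf) (G k) hW (rp h G t k U (e i))) (fun _ => m) fun p hp => by
      obtain ⟨W, hWV, c, hpW, hc⟩ := (P k).gen _ hW m p hp
      refine ⟨W, hWV, c, hpW, fun _ => hc.trans (Finset.sum_congr rfl fun i _ => ?_)⟩
      exact congrArg (fun z : MSec (O := (𝔛.X k).sheaf) (G k) W => c i • z) (FModLib.mres_mres (G k) hWV hW _).symm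
  choose b hb using fun i => oK_surjH h hV k (c i)
  refine ⟨b, (rp_lc h G t k hVU e b).trans (Eq.trans ?_ (hc PUnit.unit).symm)⟩
  exact Finset.sum_congr rfl fun i _ => congrArg (fun a : RSec (𝔛.X k).sheaf (𝔛.lvU h k V) =>
    a • mres (O := (𝔛.X k).sheaf) (G k) hW (rp h G t k U (e i))) (hb i)

include hV hVU in
omit [∀ k, Coh.IsQCoh (G k)] in
theorem exists_kerLev (P : PresLevH h G t e r) (k : ℕ) (b : ι → RSec (𝔛.Osh h) V)
    (hb : rp h G t k V (lc (realLim 𝔛 h G t) hVU e b) = 0) :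
    ∃ d : κ → RSec (𝔛.Osh h) V, ∀ i,
      oK h k V (b i) = oK h k V (∑ j, d j * rres (𝔛.Osh h) hVU (r j i)) := by
  have hW := (Opens.map (𝔛.gInv h k)).monotone hVU
  have h0 := (rp_lc h G t k hVU e b).symm.trans hb
  have : Coh.IsQCoh (Coh.structureModule (𝔛.X k)) := QCohLib.isQCoh_unit
  obtain ⟨c, hc⟩ := FModLib.exists_comb_of_local (Coh.structureModule (𝔛.X k)) (FModLib.isAffineOpen_lvU h hV k)
    (fun j i => rres (𝔛.X k).sheaf hW (oK h k U (r j i))) (fun i => oK h k V (b i)) fun p hp => by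
      obtain ⟨W, hWV, d, hpW, hd⟩ := (P k).ex _ hW _ h0 p hp
      refine ⟨W, hWV, d, hpW, fun i => (hd i).trans (Finset.sum_congr rfl fun j _ => ?_)⟩
      exact congrArg (fun z : RSec (𝔛.X k).sheaf W => d j * z) (FModLib.rres_rres hWV hW _).symm
  choose d hd using fun j => oK_surjH h hV k (c j)
  refine ⟨d, fun i => (hc i).trans (Eq.trans ?_ (FModLib.oK_sum h k d _).symm)⟩
  refine Finset.sum_congr rfl fun j _ => ?_
  exact congrArg₂ (fun a z : RSec (𝔛.X k).sheaf (𝔛.lvU h k V) => a * z) (hd j).symm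
    (FModLib.oK_rres h k hVU (r j i))

include hV hVU in
/-- Over an affine open every section of the limit is a combination. -/
theorem exists_combReal (P : PresLevH h G t e r) (s : MSec (realLim 𝔛 h G t) V) :
    ∃ b : ι → RSec (𝔛.Osh h) V, lc (realLim 𝔛 h G t) hVU e b = s := by
  let R := realLim 𝔛 h G t
  have step : ∀ k (b : ι → RSec (𝔛.Osh h) V), rp h G t k V (lc R hVU e b) = rp h G t k V s →
      ∃ b' : ι → RSec (𝔛.Osh h) V, rp h G t (k + 1) V (lc R hVU e b') = rp h G t (k + 1) V s ∧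
        ∀ i, oK h k V (b' i) = oK h k V (b i) := by
    intro k b hb
    obtain ⟨a, ha⟩ := exists_genLev h G t hV hVU P (k + 1) (rp h G t (k + 1) V s)
    have hak : rp h G t k V (lc R hVU e a) = rp h G t k V s :=
      (rp_succ h G t k V _).symm.trans ((congrArg (lvT h G t k V) ha).trans (rp_succ h G t k V s))
    have h1 : rp h G t k V (lc R hVU e (b - a)) = 0 := by
      have e' : lc R hVU e b = lc R hVU e (b - a) + lc R hVU e a :=
        (congrArg (lc R hVU e) (sub_add_cancel b a).symm).trans (FModLib.lc_add R hVU e _ _)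
      have e'' : rp h G t k V (lc R hVU e b) =
          rp h G t k V (lc R hVU e (b - a)) + rp h G t k V (lc R hVU e a) :=
        (congrArg (rp h G t k V) e').trans (map_add _ _ _)
      exact left_eq_add.1 (hak.trans (hb.symm.trans (e''.trans (add_comm _ _))))
    obtain ⟨d, hd⟩ := exists_kerLev h G t hV hVU P k (b - a) h1
    refine ⟨a + fun i => ∑ j, d j * rres (𝔛.Osh h) hVU (r j i), ?_, fun i => ?_⟩
    · exact (congrArg (rp h G t (k + 1) V) (lc_add_rel h G t hVU P a d)).trans ha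
    · refine (map_add ((𝔛.OshProj h k).hom.app (op V)).hom (a i) _).trans ?_
      refine (congrArg (fun z => oK h k V (a i) + z) (hd i).symm).trans ?_
      refine (map_add ((𝔛.OshProj h k).hom.app (op V)).hom (a i) ((b - a) i)).symm.trans ?_
      exact congrArg (oK h k V) (add_sub_cancel (a i) (b i))
  choose nxt hn1 hn2 using step
  obtain ⟨b0, hb0⟩ := exists_genLev h G t hV hVU P 0 (rp h G t 0 V s)
  let b : ∀ k, {b : ι → RSec (𝔛.Osh h) V // rp h G t k V (lc R hVU e b) = rp h G t k V s} := fun k =>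
    Nat.rec ⟨b0, hb0⟩ (fun k bk => ⟨nxt k bk.1 bk.2, hn1 k bk.1 bk.2⟩) k
  have hbs : ∀ k i, oK h k V ((b (k + 1)).1 i) = oK h k V ((b k).1 i) := fun k i =>
    hn2 k (b k).1 (b k).2 i
  choose c hc using fun i => (FModLib.toLim_bijective h V hV).2 ⟨fun k => oK h k V ((b k).1 i),
    fun k => (FModLib.oProj_succ h V k _).trans (hbs k i)⟩
  refine ⟨c, rp_ext h G t fun k => Eq.trans ?_ (b k).2⟩
  refine (rp_lc h G t k hVU e c).trans (Eq.trans ?_ (rp_lc h G t k hVU e _).symm)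
  exact congrArg (lc (O := (𝔛.X k).sheaf) (G k) _ _) (funext fun i =>
    congrArg (fun x : (FModLib.secSys h V hV).lim => x.1 k) (hc i))

omit [∀ k, Coh.IsQCoh (G k)] in
/-- **The limit is presented by the same sections.** -/
theorem locPres_realH [∀ k, Coh.IsQCoh (G k)] (hB : Opens.IsBasis {W : (𝔛.X 0).Opens | IsAffineOpen W ∧ RelClosed h W}) (P : PresLevH h G t e r) :
    LocPres (realLim 𝔛 h G t) U e r where
  rel := rel_real h G t P
  gen V hVU s p hp := by
    obtain ⟨W, ⟨hW, hcl⟩, hpW, hWV⟩ := Opens.isBasis_iff_nbhd.mp hB (U := V) (x := p) hp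
    obtain ⟨b, hb⟩ := exists_combReal h G t hW (hWV.trans hVU) P (mres _ hWV s)
    exact ⟨W, hWV, b, hpW, hb.symm⟩
  ex V hVU c hc p hp := by
    obtain ⟨W, ⟨hW, hcl⟩, hpW, hWV⟩ := Opens.isBasis_iff_nbhd.mp hB (U := V) (x := p) hp
    have h0 : lc (realLim 𝔛 h G t) (hWV.trans hVU) e (fun i => rres (𝔛.Osh h) hWV (c i)) = 0 :=
      (FModLib.mres_lc _ hWV hVU e c).symm.trans ((congrArg (mres _ hWV) hc).trans (map_zero _))
    obtain ⟨d, hd⟩ := hcl (fun j i => rres (𝔛.Osh h) (hWV.trans hVU) (r j i))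
      (fun i => rres (𝔛.Osh h) hWV (c i)) fun k =>
        exists_kerLev h G t hW (hWV.trans hVU) P k _
          ((congrArg (rp h G t k W) h0).trans (map_zero _))
    exact ⟨W, hWV, d, hpW, hd⟩

end Pres

variable {𝔛 : Sys.{u}} (h : 𝔛.IsFormal) (𝔉 : ModF 𝔛 h)

/-- The system of levels. -/
abbrev levSysH : ModSys 𝔛 := ⟨FModLib.lev h 𝔉, FModLib.psi h 𝔉⟩

theorem levSysH_toPush (k : ℕ) : (levSysH h 𝔉).toPush k = FModLib.tMap h 𝔉 k :=
  (Adjunction.homEquiv_unit _ _ _ _).trans (FModLib.unit_psi h 𝔉 k)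

/-- The cone of units. -/
def unitConeH : Cone (levelSysOf 𝔛 h (levSysH h 𝔉).F (levSysH h 𝔉).toPush) where
  pt := 𝔉
  π := NatTrans.ofOpSequence (fun k => (levelMor 𝔛 h k).adj.unit.app 𝔉) fun k => by
    show (𝟙 𝔉 : 𝔉 ⟶ 𝔉) ≫ (levelMor 𝔛 h k).adj.unit.app 𝔉 = _
    rw [Category.id_comp, levelSysOf_map_succ, levSysH_toPush]
    exact (unit_levelTrans 𝔛 h 𝔉 k).symm

/-- The comparison with the limit of the levels. -/
def etaH : 𝔉 ⟶ (levSysH h 𝔉).realMod h :=
  limit.lift _ (unitConeH h 𝔉)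

theorem rp_etaH (k : ℕ) (V : (𝔛.X 0).Opens) (x : MSec 𝔉 V) :
    rp h (levSysH h 𝔉).F (levSysH h 𝔉).toPush k V ((etaH h 𝔉).val.app (op V) x) = FModLib.piSec h 𝔉 k V x :=
  congr($(congrArg (fun a : 𝔉 ⟶ _ => a.val.app (op V))
    (show etaH h 𝔉 ≫ realProj 𝔛 h (levSysH h 𝔉).F (levSysH h 𝔉).toPush k = (levelMor 𝔛 h k).adj.unit.app 𝔉
      from limit.lift_π _ _)) x)

/-- **A finitely presented module is the limit of its levels.** -/
theorem isIso_etaH (h𝔉 : IsCohF 𝔛 h 𝔉) (hB : Opens.IsBasis {W : (𝔛.X 0).Opens | IsAffineOpen W ∧ RelClosed h W}) :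
    IsIso (etaH h 𝔉) := by
  refine FCohLib.isIso_of_locPres (etaH h 𝔉) fun p => ?_
  obtain ⟨U, ι, κ, _, _, π, ψ, _, w, hpU, hex⟩ := FModLib.exists_locPres 𝔉 h𝔉 p
  have hP := FModLib.locPres_of_exact 𝔉 π ψ w hex
  refine ⟨U, ι, κ, inferInstance, inferInstance, _, _, hpU, hP, ?_⟩
  have : ∀ k, Coh.IsQCoh ((levSysH h 𝔉).F k) := fun k => (FModLib.isCoh_lev h 𝔉 h𝔉 k).1
  refine locPres_realH h (levSysH h 𝔉).F (levSysH h 𝔉).toPush hB fun k => ?_
  rw [show (fun i => rp h (levSysH h 𝔉).F (levSysH h 𝔉).toPush k U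
      ((etaH h 𝔉).val.app (op U) (FModLib.genSec 𝔉 π i))) =
        fun i => FModLib.piSec h 𝔉 k U (FModLib.genSec 𝔉 π i) from funext fun i => rp_etaH h 𝔉 k U _]
  exact FCohLib.locPres_pullSec (𝔛.gInv h k) (𝔛.OshProj h k) hP

end FCplAffLib

end
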