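import Groth.Agent.FCplAffLib.Closed
import Groth.Agent.FCplAffLib.LimFP
import Groth.Agent.CohBCLib.LocFreeSec
import Groth.Agent.FittLib.Sheaf

/-!
# The module of a coherent system on an affine formal scheme
-/

set_option autoImplicit false
set_option linter.style.haveILetI false
set_option maxHeartbeats 1000000

universe u

open CategoryTheory CategoryTheory.Limits AlgebraicGeometry TopologicalSpace Opposite FSch
open FCohLib (lvT lvK affine_lvT)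

noncomputable section

namespace FCplAffLib

theorem appLE_appLE {W Z Z' : Scheme.{u}} (i : Z ⟶ Z') (q : Z' ⟶ W) (p : Z ⟶ W) (hpq : i ≫ q = p)
    {U : W.Opens} {V' : Z'.Opens} {V : Z.Opens} (e' : V' ≤ q ⁻¹ᵁ U) (e : V ≤ i ⁻¹ᵁ V') (e'' : V ≤ p ⁻¹ᵁ U)
    (x : Γ(W, U)) : (i.appLE V' V e).hom ((q.appLE U V' e').hom x) = (p.appLE U V e'').hom x := by
  subst hpq
  show (q.appLE U V' e' ≫ i.appLE V' V e).hom x = _
  rw [Scheme.Hom.appLE_comp_appLE]

theorem res_comm {𝔛 : Sys.{u}} (h : 𝔛.IsFormal) {Y : Scheme.{u}} (p : ∀ n, 𝔛.X n ⟶ Y)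
    (hp : ∀ n, 𝔛.ι n ≫ p (n + 1) = p n) (F : Y.Modules) (𝔐 : ModSys 𝔛)
    (φ : ∀ k, (FCohLib.resSys p hp F).F k ⟶ 𝔐.F k) (U : Y.Opens) (k : ℕ) (s : Γ(F, U))
    (a : Γ(𝔐.F k, 𝔛.lvU h k (p 0 ⁻¹ᵁ U))) (b : Γ(𝔐.F (k + 1), 𝔛.lvU h (k + 1) (p 0 ⁻¹ᵁ U)))
    (hab : lvT h 𝔐.F 𝔐.toPush k (p 0 ⁻¹ᵁ U) b = a)
    (ha : (φ k).app (𝔛.lvU h k (p 0 ⁻¹ᵁ U)) (tk h p hp F U k s) = a)
    (hb : (φ (k + 1)).app (𝔛.lvU h (k + 1) (p 0 ⁻¹ᵁ U)) (tk h p hp F U (k + 1) s) = b) :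
    (𝔐.F k).presheaf.map (homOfLE (𝔛.lvU_le h k (p 0 ⁻¹ᵁ U))).op
        (((FCohLib.resSys p hp F).toPush k ≫ (Scheme.Modules.pushforward (𝔛.ι k)).map (φ k)).app
          (𝔛.lvU h (k + 1) (p 0 ⁻¹ᵁ U)) (tk h p hp F U (k + 1) s)) =
      (𝔐.F k).presheaf.map (homOfLE (𝔛.lvU_le h k (p 0 ⁻¹ᵁ U))).op
        ((φ (k + 1) ≫ 𝔐.toPush k).app (𝔛.lvU h (k + 1) (p 0 ⁻¹ᵁ U)) (tk h p hp F U (k + 1) s)) := by
  have h1 : (φ k).app (𝔛.lvU h k (p 0 ⁻¹ᵁ U)) (lvT h (FCohLib.resSys p hp F).F (FCohLib.resSys p hp F).toPush k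
      (p 0 ⁻¹ᵁ U) (tk h p hp F U (k + 1) s)) = lvT h 𝔐.F 𝔐.toPush k (p 0 ⁻¹ᵁ U)
      ((φ (k + 1)).app (𝔛.lvU h (k + 1) (p 0 ⁻¹ᵁ U)) (tk h p hp F U (k + 1) s)) := by
    rw [lvT_tk, ha, hb, hab]
  refine Eq.trans ?_ h1
  exact (QCohLib.app_map (φ k) (homOfLE (𝔛.lvU_le h k (p 0 ⁻¹ᵁ U))) _).symm

theorem comm_gen {𝔛 : Sys.{u}} (h : 𝔛.IsFormal) {Y : Scheme.{u}} (p : ∀ n, 𝔛.X n ⟶ Y)
    (hp : ∀ n, 𝔛.ι n ≫ p (n + 1) = p n) (F : Y.Modules) (𝔐 : ModSys 𝔛) (U : Y.Opens) {T : Type u} (σ : T → Γ(F, U))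
    (φ : ∀ k, (FCohLib.resSys p hp F).F k ⟶ 𝔐.F k)
    (hext : ∀ (k : ℕ) {G : (𝔛.X (k + 1)).Modules} (a b : (FCohLib.resSys p hp F).F (k + 1) ⟶ G),
      (∀ m : T, a.app (𝔛.lvU h (k + 1) (p 0 ⁻¹ᵁ U)) (tk h p hp F U (k + 1) (σ m)) =
        b.app (𝔛.lvU h (k + 1) (p 0 ⁻¹ᵁ U)) (tk h p hp F U (k + 1) (σ m))) → a = b)
    (hinj : ∀ k, Function.Injective ((𝔐.F k).presheaf.map (homOfLE (𝔛.lvU_le h k (p 0 ⁻¹ᵁ U))).op))
    (l : ∀ k, T → Γ(𝔐.F k, 𝔛.lvU h k (p 0 ⁻¹ᵁ U)))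
    (hl : ∀ k m, lvT h 𝔐.F 𝔐.toPush k (p 0 ⁻¹ᵁ U) (l (k + 1) m) = l k m)
    (hφ : ∀ k m, (φ k).app (𝔛.lvU h k (p 0 ⁻¹ᵁ U)) (tk h p hp F U k (σ m)) = l k m) (k : ℕ) :
    (FCohLib.resSys p hp F).toPush k ≫ (Scheme.Modules.pushforward (𝔛.ι k)).map (φ k) = φ (k + 1) ≫ 𝔐.toPush k :=
  hext k _ _ fun m => hinj k
    (res_comm h p hp F 𝔐 φ U k (σ m) (l k m) (l (k + 1) m) (hl k m) (hφ k m) (hφ (k + 1) m))

theorem mem_smul_comap {A B N : Type u} [CommRing A] [CommRing B] [AddCommGroup N] [Module B N] (φ : A →+* B)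
    (K : Ideal A) (m : N) :
    letI := Module.compHom N φ
    m ∈ K.map φ • (⊤ : Submodule B N) ↔ m ∈ K • (⊤ : Submodule A N) := by
  letI := φ.toAlgebra
  letI := Module.compHom N φ
  haveI : IsScalarTower A B N := IsScalarTower.of_algebraMap_smul fun _ _ => rfl
  rw [show K.map φ = K.map (algebraMap A B) from rfl, ← Submodule.restrictScalars_mem A,
    Ideal.smul_restrictScalars, Submodule.restrictScalars_top]

variable {A : Type u} [CommRing A] (J : Ideal A)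
  (h : (completionAlong (Spec (CommRingCat.of A)) (idealSpec A J)).IsFormal)

/-- The global open of the formal scheme. -/
abbrev V0 : ((completionAlong (Spec (CommRingCat.of A)) (idealSpec A J)).X 0).Opens := pA J 0 ⁻¹ᵁ ⊤

/-- The ring map to a level. -/
def aA (k : ℕ) : A →+* Γ((completionAlong (Spec (CommRingCat.of A)) (idealSpec A J)).X k,
    (completionAlong (Spec (CommRingCat.of A)) (idealSpec A J)).lvU h k (V0 J)) :=
  ((pA J k).appLE ⊤ _ (hle h (pA J) (completionToX_comm _ _) ⊤ k)).hom.comp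
    (algebraMap A Γ(Spec (CommRingCat.of A), ⊤))

theorem aA_succ (k : ℕ) (a : A) :
    (((completionAlong (Spec (CommRingCat.of A)) (idealSpec A J)).ι k).appLE _ _
      (Sys.lvU_le _ h k (V0 J))).hom (aA J h (k + 1) a) = aA J h k a := by
  exact appLE_appLE _ _ _ (completionToX_comm _ _ k) _ _ _ _

theorem algTop_bijective : Function.Bijective (algebraMap A Γ(Spec (CommRingCat.of A), ⊤)) := by
  have : IsIso ((Scheme.ΓSpecIso (CommRingCat.of A)).inv ≫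
      (Spec (CommRingCat.of A)).presheaf.map (homOfLE (le_refl (⊤ : (Spec (CommRingCat.of A)).Opens))).op) := by
    haveI : IsIso (homOfLE (le_refl (⊤ : (Spec (CommRingCat.of A)).Opens))) :=
      ⟨⟨homOfLE le_rfl, Subsingleton.elim _ _, Subsingleton.elim _ _⟩⟩
    infer_instance
  exact ConcreteCategory.bijective_of_isIso ((Scheme.ΓSpecIso (CommRingCat.of A)).inv ≫
    (Spec (CommRingCat.of A)).presheaf.map (homOfLE (le_refl (⊤ : (Spec (CommRingCat.of A)).Opens))).op)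

theorem aA_surjective (k : ℕ) : Function.Surjective (aA J h k) :=
  (FComplLib.surjective_appLE (pA J k) _ (isAffineOpen_top _) _ _
    (lvU_p (completionAlong _ (idealSpec A J)) h (pA J) (completionToX_comm _ _) k ⊤).symm).comp algTop_bijective.2

theorem ker_aA (k : ℕ) : RingHom.ker (aA J h k) = J ^ (k + 1) := by
  rw [aA, ← RingHom.comap_ker, ker_scal h (pA J) (completionToX_comm _ _) (FCohLib.ker_app_completionToX _)
    (isAffineOpen_top _) k, idl_eq A J ⊤ (isAffineOpen_top _), ← Ideal.map_pow]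
  exact Ideal.comap_map_of_bijective _ algTop_bijective

theorem lvK_eq (k : ℕ) :
    lvK h k (V0 J) = (J ^ (k + 1)).map (aA J h (k + 1)) := by
  refine le_antisymm (fun c hc => ?_) (Ideal.map_le_iff_le_comap.2 fun a ha => ?_)
  · obtain ⟨a, rfl⟩ := aA_surjective J h (k + 1) c
    refine Ideal.mem_map_of_mem _ ?_
    rw [← ker_aA J h k, RingHom.mem_ker, ← aA_succ]
    exact RingHom.mem_ker.1 hc
  · rw [Ideal.mem_comap, RingHom.mem_ker, aA_succ, ← RingHom.mem_ker, ker_aA]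
    exact ha

variable (𝔐 : ModSys (completionAlong (Spec (CommRingCat.of A)) (idealSpec A J)))

/-- The sections of a level. -/
def NS (k : ℕ) : Type u := Γ(𝔐.F k, (completionAlong (Spec (CommRingCat.of A)) (idealSpec A J)).lvU h k (V0 J))

instance (k : ℕ) : AddCommGroup (NS J h 𝔐 k) :=
  inferInstanceAs (AddCommGroup Γ(𝔐.F k, (completionAlong (Spec (CommRingCat.of A)) (idealSpec A J)).lvU h k (V0 J)))

instance (k : ℕ) : Module Γ((completionAlong (Spec (CommRingCat.of A)) (idealSpec A J)).X k,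
    (completionAlong (Spec (CommRingCat.of A)) (idealSpec A J)).lvU h k (V0 J)) (NS J h 𝔐 k) :=
  inferInstanceAs (Module _ Γ(𝔐.F k, (completionAlong (Spec (CommRingCat.of A)) (idealSpec A J)).lvU h k (V0 J)))

instance modNS (k : ℕ) : Module A (NS J h 𝔐 k) := Module.compHom (NS J h 𝔐 k) (aA J h k)

/-- The transition. -/
def tNS (k : ℕ) : NS J h 𝔐 (k + 1) →ₗ[A] NS J h 𝔐 k where
  toFun := lvT h 𝔐.F 𝔐.toPush k (V0 J)
  map_add' := FCohLib.lvT_add h 𝔐.F 𝔐.toPush k (V0 J)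
  map_smul' a m := (FCohLib.lvT_smul h 𝔐.F 𝔐.toPush k (V0 J) (aA J h (k + 1) a) m).trans
    (congrArg (fun c => c • (show NS J h 𝔐 k from lvT h 𝔐.F 𝔐.toPush k (V0 J) m)) (aA_succ J h k a))

variable [∀ k, Coh.IsQCoh (𝔐.F k)]

theorem tNS_spec (k : ℕ) : Function.Surjective (tNS J h 𝔐 k) ∧
    LinearMap.ker (tNS J h 𝔐 k) = J ^ (k + 1) • (⊤ : Submodule A (NS J h 𝔐 (k + 1))) := by
  have hV : IsAffineOpen (V0 J) := (isAffineOpen_top _).preimage (pA J 0)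
  obtain ⟨hs, hk⟩ := affine_lvT h 𝔐 hV k
  refine ⟨hs, Submodule.ext fun m => (hk m).trans ?_⟩
  show m ∈ (lvK h k (V0 J)) • (⊤ : Submodule _ (NS J h 𝔐 (k + 1))) ↔ _
  rw [lvK_eq]
  exact mem_smul_comap (N := NS J h 𝔐 (k + 1)) (aA J h (k + 1)) _ m

theorem finitePresentation_NS (hJ : J.FG) (k : ℕ) (hfp : CohB1.IsFP (𝔐.F k)) :
    Module.FinitePresentation A (NS J h 𝔐 k) := by
  have hV : IsAffineOpen (V0 J) := (isAffineOpen_top _).preimage (pA J 0)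
  let B := Γ((completionAlong (Spec (CommRingCat.of A)) (idealSpec A J)).X k,
    (completionAlong (Spec (CommRingCat.of A)) (idealSpec A J)).lvU h k (V0 J))
  letI : Algebra A B := (aA J h k).toAlgebra
  haveI : IsScalarTower A B (NS J h 𝔐 k) := IsScalarTower.of_algebraMap_smul fun _ _ => rfl
  haveI : Module.FinitePresentation B (NS J h 𝔐 k) :=
    FittLib.finitePresentation_affine (𝔐.F k) hfp (FModLib.isAffineOpen_lvU h hV k)
  haveI : Module.FinitePresentation A B :=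
    Module.finitePresentation_of_surjective (Algebra.linearMap A B) (aA_surjective J h k) (by
      rw [show LinearMap.ker (Algebra.linearMap A B) = RingHom.ker (aA J h k) from rfl, ker_aA]
      exact hJ.pow)
  exact Module.FinitePresentation.trans A (NS J h 𝔐 k) B

/-- The limit of the sections. -/
def LS : Submodule A (∀ k, NS J h 𝔐 k) where
  carrier := {y | ∀ k, tNS J h 𝔐 k (y (k + 1)) = y k}
  zero_mem' := fun k => map_zero _
  add_mem' := fun ha hb k => by rw [Pi.add_apply, map_add, ha k, hb k]; rfl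
  smul_mem' := fun c y hy k => by rw [Pi.smul_apply, map_smul, hy k]; rfl

/-- The projections. -/
def πS (k : ℕ) : LS J h 𝔐 →ₗ[A] NS J h 𝔐 k := (LinearMap.proj k).comp (LS J h 𝔐).subtype

theorem LS_spec (hJ : J.FG) [IsAdicComplete J A] (hfp : ∀ k, CohB1.IsFP (𝔐.F k)) :
    Module.Finite A (LS J h 𝔐) ∧ ∀ k, Function.Surjective (πS J h 𝔐 k) ∧
      LinearMap.ker (πS J h 𝔐 k) = J ^ (k + 1) • (⊤ : Submodule A (LS J h 𝔐)) := by
  have := finitePresentation_NS J h 𝔐 hJ 0 (hfp 0)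
  obtain ⟨-, hsk, hfin⟩ := CompleteLib.limit_of_fg J (NS J h 𝔐) (tNS J h 𝔐) (fun k => (tNS_spec J h 𝔐 k).1)
    (fun k => (tNS_spec J h 𝔐 k).2) (LS J h 𝔐) (πS J h 𝔐) (fun k => LinearMap.ext fun x => x.2 k)
    (fun x hx => Subtype.ext (funext hx)) (fun y hy => ⟨⟨y, hy⟩, fun _ => rfl⟩) hJ
  exact ⟨hfin inferInstance inferInstance, hsk⟩

section Hom

variable {J}

/-- Morphisms out of a pulled back tilde are determined by the elements of the module. -/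
theorem hom_ext_pbTilde {Z : Scheme.{u}} (g : Z ⟶ Spec (CommRingCat.of A)) (M : ModuleCat.{u} A)
    {G : Z.Modules} (φ ψ : (Scheme.Modules.pullback g).obj (TM M) ⟶ G) {U' : Z.Opens}
    (h1 : U' ≤ g ⁻¹ᵁ ⊤) (h2 : g ⁻¹ᵁ ⊤ ≤ U')
    (H : ∀ m : M, φ.app U' (KFlatLib.puSecLE g (TM M) h1 (toSec M ⊤ m)) =
      ψ.app U' (KFlatLib.puSecLE g (TM M) h1 (toSec M ⊤ m))) : φ = ψ := by
  apply ((Scheme.Modules.pullbackPushforwardAdjunction g).homEquiv _ _).injective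
  apply ((tilde.adjunction (R := CommRingCat.of A)).homEquiv _ _).injective
  refine ModuleCat.hom_ext (LinearMap.ext fun m => ?_)
  obtain rfl : U' = g ⁻¹ᵁ ⊤ := le_antisymm h1 h2
  have hp : KFlatLib.puSecLE g (TM M) h1 (toSec M ⊤ m) = KFlatLib.puSec g (toSec M ⊤ m) :=
    CohCmpLib.puSecLE_refl g (TM M) h1 _
  have H' := H m
  rw [hp] at H'
  exact H'

theorem exists_hom_pbTildeR (S : CommRingCat.{u}) {Z : Scheme.{u}} (g : Z ⟶ Spec S) (M : ModuleCat.{u} S)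
    {G : Z.Modules} (l : M →+ Γ(G, g ⁻¹ᵁ ⊤))
    (hl : ∀ (a : S) (m : M), l (a • m) = (g.app ⊤).hom (algebraMap S Γ(Spec S, ⊤) a) • l m) :
    ∃ φ : (Scheme.Modules.pullback g).obj ((tilde.functor S).obj M) ⟶ G,
      ∀ m : M, φ.app (g ⁻¹ᵁ ⊤) (KFlatLib.puSec g (M := (tilde.functor S).obj M) (U := ⊤)
        (show Γ((tilde.functor S).obj M, ⊤) from tilde.toOpen M ⊤ m)) = l m := by
  let lin : M →ₗ[S] Γ((Scheme.Modules.pushforward g).obj G, ⊤) :=
    { toFun := fun m => l m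
      map_add' := fun a b => map_add l a b
      map_smul' := fun a m => by exact hl a m }
  let e : M ⟶ moduleSpecΓFunctor.obj ((Scheme.Modules.pushforward g).obj G) :=
    show M ⟶ ModuleCat.of S Γ((Scheme.Modules.pushforward g).obj G, ⊤) from ModuleCat.ofHom lin
  let ψ := ((tilde.adjunction (R := S)).homEquiv _ _).symm e
  refine ⟨((Scheme.Modules.pullbackPushforwardAdjunction g).homEquiv _ _).symm ψ, fun m => ?_⟩
  have e2 := (((Scheme.Modules.pullbackPushforwardAdjunction g).homEquiv ((tilde.functor S).obj M) G).apply_symm_apply ψ)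
  rw [Adjunction.homEquiv_unit] at e2
  refine Eq.trans (congrArg (fun z : (tilde.functor S).obj M ⟶ (Scheme.Modules.pushforward g).obj G =>
    z.app ⊤ (tilde.toOpen M ⊤ m)) e2 :) ?_
  have e1 := (((tilde.adjunction (R := S)).homEquiv _ _).apply_symm_apply e)
  rw [Adjunction.homEquiv_unit] at e1
  exact (congr($e1 m) :)

theorem exists_hom_pbTilde {Z : Scheme.{u}} (g : Z ⟶ Spec (CommRingCat.of A)) (M : ModuleCat.{u} A)
    {G : Z.Modules} {U' : Z.Opens} (h1 : U' ≤ g ⁻¹ᵁ ⊤) (h2 : g ⁻¹ᵁ ⊤ ≤ U') (l : M →+ Γ(G, U'))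
    (hl : ∀ a m, l (a • m) = (g.appLE ⊤ U' h1).hom (algebraMap A Γ(Spec (CommRingCat.of A), ⊤) a) • l m) :
    ∃ φ : (Scheme.Modules.pullback g).obj (TM M) ⟶ G,
      ∀ m : M, φ.app U' (KFlatLib.puSecLE g (TM M) h1 (toSec M ⊤ m)) = l m := by
  obtain rfl : U' = g ⁻¹ᵁ ⊤ := le_antisymm h1 h2
  obtain ⟨φ, hφ⟩ := exists_hom_pbTildeR (CommRingCat.of A) g M (G := G) l fun a m => by
    rw [Scheme.Hom.app_eq_appLE]
    exact hl a m
  exact ⟨φ, fun m => (congrArg (φ.app (g ⁻¹ᵁ ⊤)) (CohCmpLib.puSecLE_refl g (TM M) h1 _)).trans (hφ m)⟩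

end Hom

/-- The comparison at a level. -/
theorem exists_levelIso (hJ : J.FG) [IsAdicComplete J A] (hfp : ∀ k, CohB1.IsFP (𝔐.F k)) (k : ℕ) :
    ∃ φ : (Scheme.Modules.pullback (pA J k)).obj (TM (ModuleCat.of A (LS J h 𝔐))) ⟶ 𝔐.F k,
      IsIso φ ∧ ∀ m : LS J h 𝔐, φ.app _ (KFlatLib.puSecLE (pA J k) (TM (ModuleCat.of A (LS J h 𝔐)))
        (hle h (pA J) (completionToX_comm _ _) ⊤ k) (toSec (ModuleCat.of A (LS J h 𝔐)) ⊤ m)) = πS J h 𝔐 k m := by
  obtain ⟨hfin, hs⟩ := LS_spec J h 𝔐 hJ hfp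
  have hle2 : pA J k ⁻¹ᵁ ⊤ ≤ (completionAlong (Spec (CommRingCat.of A)) (idealSpec A J)).lvU h k (V0 J) :=
    (lvU_p _ h (pA J) (completionToX_comm _ _) k ⊤).ge
  obtain ⟨φ, hφ⟩ := exists_hom_pbTilde (pA J k) (ModuleCat.of A (LS J h 𝔐)) (G := 𝔐.F k)
    (hle h (pA J) (completionToX_comm _ _) ⊤ k) hle2 (πS J h 𝔐 k).toAddMonoidHom
    (fun a m => map_smul (πS J h 𝔐 k) a m)
  refine ⟨φ, ?_, hφ⟩
  haveI : IsAffine ((completionAlong (Spec (CommRingCat.of A)) (idealSpec A J)).X k) :=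
    isAffine_of_isAffineHom (pA J k)
  haveI : Coh.IsQCoh ((Scheme.Modules.pullback (pA J k)).obj (TM (ModuleCat.of A (LS J h 𝔐)))) :=
    KFlatLib.isQCoh_pullback (pA J k) _
  refine CohBCLib.isIso_of_bijective_top φ ?_
  obtain ⟨ht, hz⟩ := tk_spec h (pA J) (completionToX_comm _ _) (FCohLib.ker_app_completionToX _)
    (TM (ModuleCat.of A (LS J h 𝔐))) (isAffineOpen_top _) k
  show Function.Bijective (φ.app ((completionAlong (Spec (CommRingCat.of A)) (idealSpec A J)).lvU h k (V0 J)))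
  refine ⟨(injective_iff_map_eq_zero _).2 fun y hy => ?_, fun y => ?_⟩
  · obtain ⟨s, rfl⟩ := ht y
    obtain ⟨m, rfl⟩ := (toSec_top _).2 s
    rw [hz, toSec_mem, ← (hs k).2]
    exact (hφ m).symm.trans hy
  · obtain ⟨m, hm⟩ := (hs k).1 y
    exact ⟨tk h (pA J) (completionToX_comm _ _) _ ⊤ k (toSec _ ⊤ m), (hφ m).trans hm⟩

theorem finitePresentation_quot (hJ : J.FG) [IsAdicComplete J A] (hfp : ∀ k, CohB1.IsFP (𝔐.F k)) (k : ℕ) :
    Module.FinitePresentation A ((LS J h 𝔐) ⧸ J ^ (k + 1) • (⊤ : Submodule A (LS J h 𝔐))) := by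
  obtain ⟨hfin, hs⟩ := LS_spec J h 𝔐 hJ hfp
  have := finitePresentation_NS J h 𝔐 hJ k (hfp k)
  have e := (Submodule.quotEquivOfEq _ _ (hs k).2).symm.trans ((πS J h 𝔐 k).quotKerEquivOfSurjective (hs k).1)
  exact Module.FinitePresentation.of_equiv e.symm

theorem res_injective (k : ℕ) : Function.Injective ((𝔐.F k).presheaf.map
    (homOfLE ((completionAlong (Spec (CommRingCat.of A)) (idealSpec A J)).lvU_le h k (V0 J))).op) := by
  haveI : IsIso (homOfLE ((completionAlong (Spec (CommRingCat.of A)) (idealSpec A J)).lvU_le h k (V0 J))) :=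
    ⟨⟨homOfLE ((completionAlong (Spec (CommRingCat.of A)) (idealSpec A J)).lvU_succ h k (V0 J)).ge,
      Subsingleton.elim _ _, Subsingleton.elim _ _⟩⟩
  exact (ConcreteCategory.bijective_of_isIso _).1

theorem comm_levels (M : ModuleCat.{u} A)
    (φ : ∀ k, (FCohLib.resSys (pA J) (completionToX_comm (Spec (CommRingCat.of A)) (idealSpec A J)) (TM M)).F k ⟶ 𝔐.F k)
    (l : ∀ k, M → Γ(𝔐.F k, (completionAlong (Spec (CommRingCat.of A)) (idealSpec A J)).lvU h k (V0 J)))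
    (hl : ∀ k m, lvT h 𝔐.F 𝔐.toPush k (V0 J) (l (k + 1) m) = l k m)
    (hφ : ∀ k m, (φ k).app ((completionAlong (Spec (CommRingCat.of A)) (idealSpec A J)).lvU h k (V0 J))
      (tk h (pA J) (completionToX_comm _ _) (TM M) ⊤ k (toSec M ⊤ m)) = l k m) (k : ℕ) :
    (FCohLib.resSys (pA J) (completionToX_comm (Spec (CommRingCat.of A)) (idealSpec A J)) (TM M)).toPush k ≫
        (Scheme.Modules.pushforward ((completionAlong (Spec (CommRingCat.of A)) (idealSpec A J)).ι k)).map (φ k) =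
      φ (k + 1) ≫ 𝔐.toPush k := by
  exact comm_gen h (pA J) (completionToX_comm (Spec (CommRingCat.of A)) (idealSpec A J)) (TM M) 𝔐 ⊤
    (toSec M ⊤) φ (fun k {G} a b H => hom_ext_pbTilde (pA J (k + 1)) M a b
      (hle h (pA J) (completionToX_comm _ _) ⊤ (k + 1))
      (lvU_p _ h (pA J) (completionToX_comm _ _) (k + 1) ⊤).ge H)
    (res_injective J h 𝔐) l hl hφ k

include h in
theorem exists_iso_resSys (hJ : J.FG) [IsAdicComplete J A] (hfp : ∀ k, CohB1.IsFP (𝔐.F k)) :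
    ∃ M : ModuleCat.{u} A, Module.Finite A M ∧
      (∀ k, Module.FinitePresentation A (M ⧸ J ^ (k + 1) • (⊤ : Submodule A M))) ∧
      ∃ e : ∀ k, (FCohLib.resSys (pA J) (completionToX_comm (Spec (CommRingCat.of A)) (idealSpec A J)) (TM M)).F k ≅ 𝔐.F k,
        ∀ k, (FCohLib.resSys (pA J) (completionToX_comm (Spec (CommRingCat.of A)) (idealSpec A J)) (TM M)).toPush k ≫
            (Scheme.Modules.pushforward ((completionAlong (Spec (CommRingCat.of A)) (idealSpec A J)).ι k)).map (e k).hom =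
          (e (k + 1)).hom ≫ 𝔐.toPush k := by
  choose φ hiso hφ using exists_levelIso J h 𝔐 hJ hfp
  refine ⟨ModuleCat.of A (LS J h 𝔐), (LS_spec J h 𝔐 hJ hfp).1, finitePresentation_quot J h 𝔐 hJ hfp,
    fun k => @asIso _ _ _ _ (φ k) (hiso k), ?_⟩
  exact comm_levels J h 𝔐 (ModuleCat.of A (LS J h 𝔐)) φ (fun k m => πS J h 𝔐 k m) (fun k m => m.2 k) hφ

end FCplAffLib

end
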