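import Groth.Agent.FCplAffLib.Full

/-!
# Completion reflects short exactness
-/

set_option autoImplicit false
set_option linter.style.haveILetI false
set_option maxHeartbeats 800000

universe u v w

open CategoryTheory CategoryTheory.Limits AlgebraicGeometry FSch

noncomputable section

namespace FCplAffLib

/-- Abstract reflection of short exactness. -/
theorem reflect_shortExact {A : Type u} [CommRing A] {C : Type v} [Category.{w} C] [Abelian C]
    (T : ModuleCat.{u} A ⥤ C) (T0 : ∀ M N : ModuleCat.{u} A, T.map (0 : M ⟶ N) = 0)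
    (P : ModuleCat.{u} A → Prop) (inj : ∀ {M N : ModuleCat.{u} A}, P N → Function.Injective (T.map (X := M) (Y := N)))
    (surj : ∀ {M N : ModuleCat.{u} A}, P M → P N → Function.Surjective (T.map (X := M) (Y := N)))
    (hq : ∀ (M : ModuleCat.{u} A) (K : Submodule A M), P M → P (ModuleCat.of A (M ⧸ K)))
    {M₁ M₂ M₃ : ModuleCat.{u} A} (p₁ : P M₁) (p₂ : P M₂) (p₃ : P M₃) (u : M₁ ⟶ M₂) (v : M₂ ⟶ M₃)
    (w₀ : T.map u ≫ T.map v = 0) (hS : (ShortComplex.mk (T.map u) (T.map v) w₀).ShortExact) :
    ∃ w : u ≫ v = 0, (ShortComplex.mk u v w).ShortExact := by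
  have hm : Mono (T.map u) := hS.mono_f
  have he : Epi (T.map v) := hS.epi_g
  have w : u ≫ v = 0 := inj p₃ (((T.map_comp u v).trans w₀).trans (T0 _ _).symm)
  refine ⟨w, ?_⟩
  have hinj : Function.Injective u := by
    refine (injective_iff_map_eq_zero u.hom).2 fun x hx => ?_
    let a : ModuleCat.of A A ⟶ M₁ := ModuleCat.ofHom (LinearMap.toSpanSingleton A M₁ x)
    have h1 : a ≫ u = 0 := by
      ext
      simpa [a] using hx
    have h2 : T.map a = T.map 0 := (cancel_mono (T.map u)).1 <| by
      rw [← T.map_comp, h1, T0, T0, zero_comp]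
    simpa [a] using congr($(inj p₁ h2) (1 : A))
  have hsurj : Function.Surjective v := by
    rw [← ModuleCat.epi_iff_surjective, ModuleCat.epi_iff_range_eq_top]
    let c : M₃ ⟶ ModuleCat.of A (M₃ ⧸ LinearMap.range v.hom) := ModuleCat.ofHom (LinearMap.range v.hom).mkQ
    have h1 : v ≫ c = 0 := by
      ext x
      exact (Submodule.Quotient.mk_eq_zero _).2 ⟨x, rfl⟩
    have h2 : T.map c = T.map 0 := (cancel_epi (T.map v)).1 <| by
      rw [← T.map_comp, h1, T0, T0, comp_zero]
    refine eq_top_iff.2 fun y _ => ?_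
    exact (Submodule.Quotient.mk_eq_zero _).1 congr($(inj (hq _ _ p₃) h2) y)
  have hex : (ShortComplex.mk u v w).Exact := by
    rw [ShortComplex.moduleCat_exact_iff]
    intro x hx
    let Q := ModuleCat.of A (M₂ ⧸ LinearMap.range u.hom)
    let c : M₂ ⟶ Q := ModuleCat.ofHom (LinearMap.range u.hom).mkQ
    have h1 : u ≫ c = 0 := by
      ext x
      exact (Submodule.Quotient.mk_eq_zero _).2 ⟨x, rfl⟩
    have h0 : T.map u ≫ T.map c = 0 := by rw [← T.map_comp, h1, T0]
    obtain ⟨l, hl⟩ := CokernelCofork.IsColimit.desc' (f := T.map u) (hS.gIsCokernel) (T.map c) h0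
    obtain ⟨ψ, hψ⟩ := surj p₃ (hq _ _ p₂) l
    have h3 : c = v ≫ ψ := inj (hq _ _ p₂) (by rw [T.map_comp, hψ]; exact hl.symm)
    exact (Submodule.Quotient.mk_eq_zero _).1 ((congr($h3 x)).trans ((congrArg ψ hx).trans (map_zero _)))
  exact { exact := hex, mono_f := (ModuleCat.mono_iff_injective _).2 hinj, epi_g := (ModuleCat.epi_iff_surjective _).2 hsurj }

variable {A : Type u} [CommRing A] (J : Ideal A)
  (h : (completionAlong (Spec (CommRingCat.of A)) (idealSpec A J)).IsFormal)

/-- Completion of the associated sheaves, as a functor. -/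
def cplF : ModuleCat.{u} A ⥤ ModF (completionAlong (Spec (CommRingCat.of A)) (idealSpec A J)) h where
  obj M := (complMod (idealSpec A J) ((tilde.functor (CommRingCat.of A)).obj M)).realMod h
  map f := ModSys.realModMap h (complModMap (idealSpec A J) ((tilde.functor (CommRingCat.of A)).map f))
  map_id M := (congrArg (fun z => ModSys.realModMap h (complModMap (idealSpec A J) z))
    ((tilde.functor (CommRingCat.of A)).map_id M)).trans (FCohLib.realModMap_complModMap_id _ h _)
  map_comp f g := (congrArg (fun z => ModSys.realModMap h (complModMap (idealSpec A J) z))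
    ((tilde.functor (CommRingCat.of A)).map_comp f g)).trans (FCohLib.realModMap_complModMap_comp _ h _ _)

theorem cplF_zero (M N : ModuleCat.{u} A) : (cplF J h).map (0 : M ⟶ N) = 0 :=
  (congrArg (fun z => ModSys.realModMap h (complModMap (idealSpec A J) z))
    ((tilde.functor (CommRingCat.of A)).map_zero M N)).trans (FCohLib.realModMap_complModMap_zero _ h _ _)

theorem cplF_injective (hc : ∀ (M : Type u) [AddCommGroup M] [Module A M] [Module.Finite A M], IsAdicComplete J M)
    {M N : ModuleCat.{u} A} (hN : Module.Finite A N) : Function.Injective ((cplF J h).map (X := M) (Y := N)) :=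
  fun a b e => by
    have := hc N
    exact injective_realModMap J h M N e

theorem cplF_surjective (hc : ∀ (M : Type u) [AddCommGroup M] [Module A M] [Module.Finite A M], IsAdicComplete J M)
    {M N : ModuleCat.{u} A} (hM : Module.Finite A M) (hN : Module.Finite A N) :
    Function.Surjective ((cplF J h).map (X := M) (Y := N)) :=
  fun θ => by
    have := hc N
    exact exists_realModMap_eq J h M N θ

theorem reflect_complModMap (hc : ∀ (M : Type u) [AddCommGroup M] [Module A M] [Module.Finite A M], IsAdicComplete J M)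
    (M₁ M₂ M₃ : ModuleCat.{u} A) [Module.Finite A M₁] [Module.Finite A M₂] [Module.Finite A M₃]
    (u : M₁ ⟶ M₂) (v : M₂ ⟶ M₃) (w : (cplF J h).map u ≫ (cplF J h).map v = 0)
    (hS : (ShortComplex.mk _ _ w).ShortExact) : ∃ w : u ≫ v = 0, (ShortComplex.mk u v w).ShortExact :=
  reflect_shortExact (cplF J h) (cplF_zero J h) (fun M => Module.Finite A M)
    (fun hN => cplF_injective J h hc hN) (fun hM hN => cplF_surjective J h hc hM hN)
    (fun M K (hM : Module.Finite A M) => inferInstanceAs (Module.Finite A (M ⧸ K))) ‹_› ‹_› ‹_› u v w hS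

end FCplAffLib

end
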