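import Groth.Agent.FCohLib.AffMod
import Groth.Agent.FCohLib.CmplReal
import Groth.Agent.CohCmpLib.PullOnComp
import Groth.Agent.FComplLib.Completion

/-!
# Sections of completed modules over affine opens as compatible sequences
-/

set_option autoImplicit false
set_option linter.style.haveILetI false
set_option maxHeartbeats 800000

universe u

open CategoryTheory CategoryTheory.Limits AlgebraicGeometry TopologicalSpace Opposite FSch
open FModLib (MSec RSec oK)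
open FCohLib (resSys rp lvT rp_ext exists_rp rp_succ resSys_lvT)

noncomputable section

namespace FCplAffLib

variable {𝔛 : Sys.{u}} (h : 𝔛.IsFormal) {Y : Scheme.{u}} (p : ∀ n, 𝔛.X n ⟶ Y) (hp : ∀ n, 𝔛.ι n ≫ p (n + 1) = p n)
  [∀ n, IsClosedImmersion (p n)]
  (hpow : ∀ k (U : Y.affineOpens),
    RingHom.ker ((p k).app U.1).hom = RingHom.ker ((p 0).app U.1).hom ^ (k + 1))

include hp in
omit [∀ n, IsClosedImmersion (p n)] in
theorem hle (U : Y.Opens) (j : ℕ) : 𝔛.lvU h j (p 0 ⁻¹ᵁ U) ≤ p j ⁻¹ᵁ U := (lvU_p 𝔛 h p hp j U).ge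

/-- Sections of a module at a level. -/
abbrev tk (F : Y.Modules) (U : Y.Opens) (j : ℕ) :
    Γ(F, U) →+ Γ((resSys p hp F).F j, 𝔛.lvU h j (p 0 ⁻¹ᵁ U)) :=
  KFlatLib.puSecLE (p j) F (hle h p hp U j)

/-- The ideal of the subscheme on an open. -/
abbrev idl (U : Y.Opens) : Ideal Γ(Y, U) := RingHom.ker ((p 0).app U).hom

include hpow in
theorem ker_scal {U : Y.Opens} (hU : IsAffineOpen U) (j : ℕ) :
    RingHom.ker ((p j).appLE U _ (hle h p hp U j)).hom = idl p U ^ (j + 1) := by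
  rw [FModLib.ker_appLE_of_eq (p j) U _ (hle h p hp U j) (lvU_p 𝔛 h p hp j U)]
  exact hpow j ⟨U, hU⟩

include hpow in
theorem tk_spec (F : Y.Modules) [Coh.IsQCoh F] {U : Y.Opens} (hU : IsAffineOpen U) (j : ℕ) :
    Function.Surjective (tk h p hp F U j) ∧
      ∀ m : Γ(F, U), tk h p hp F U j m = 0 ↔ m ∈ idl p U ^ (j + 1) • (⊤ : Submodule Γ(Y, U) Γ(F, U)) := by
  let R := Γ(Y, U)
  let α : R →+* Γ(𝔛.X j, 𝔛.lvU h j (p 0 ⁻¹ᵁ U)) := ((p j).appLE U _ (hle h p hp U j)).hom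
  letI := α.toAlgebra
  let P := (Scheme.Modules.pullback (p j)).obj F
  letI : Module R Γ(P, 𝔛.lvU h j (p 0 ⁻¹ᵁ U)) := Module.compHom _ α
  have : IsScalarTower R Γ(𝔛.X j, 𝔛.lvU h j (p 0 ⁻¹ᵁ U)) Γ(P, 𝔛.lvU h j (p 0 ⁻¹ᵁ U)) :=
    IsScalarTower.of_algebraMap_smul fun _ _ => rfl
  let l : Γ(F, U) →ₗ[R] Γ(P, 𝔛.lvU h j (p 0 ⁻¹ᵁ U)) :=
    { toFun := KFlatLib.puSecLE (p j) F (hle h p hp U j)
      map_add' := map_add _
      map_smul' := fun r m => KFlatLib.puSecLE_smul (p j) F (hle h p hp U j) r m }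
  have hs : Function.Surjective (algebraMap R Γ(𝔛.X j, 𝔛.lvU h j (p 0 ⁻¹ᵁ U))) :=
    FComplLib.surjective_appLE (p j) _ hU _ _ (lvU_p 𝔛 h p hp j U).symm
  obtain ⟨hsurj, hk⟩ := FCohLib.mem_ker_iff_of_isBaseChange l
    (KFlatLib.isBaseChange_puSec (p j) F hU (hU.preimage (p j) |> fun e => by
      rwa [lvU_p 𝔛 h p hp j U] at e) (hle h p hp U j) (fun _ => rfl) l (fun _ => rfl)) hs
  refine ⟨hsurj, fun m => (hk m).trans ?_⟩
  rw [show RingHom.ker (algebraMap R Γ(𝔛.X j, 𝔛.lvU h j (p 0 ⁻¹ᵁ U))) = idl p U ^ (j + 1) from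
    ker_scal h p hp hpow hU j]

omit [∀ n, IsClosedImmersion (p n)] in
theorem lvT_tk (F : Y.Modules) (U : Y.Opens) (k : ℕ) (a : Γ(F, U)) :
    lvT h (resSys p hp F).F (resSys p hp F).toPush k (p 0 ⁻¹ᵁ U) (tk h p hp F U (k + 1) a) = tk h p hp F U k a :=
  resSys_lvT h p hp F k a _ _ _

include hpow in
theorem tk_congr (F : Y.Modules) [Coh.IsQCoh F] {U : Y.Opens} (hU : IsAffineOpen U) (j : ℕ) {a b : Γ(F, U)}
    (hab : a - b ∈ idl p U ^ (j + 1) • (⊤ : Submodule Γ(Y, U) Γ(F, U))) :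
    tk h p hp F U j a = tk h p hp F U j b :=
  sub_eq_zero.1 ((map_sub _ _ _).symm.trans (((tk_spec h p hp hpow F hU j).2 _).2 hab))

/-- A sequence of sections converging adically. -/
def Compat (F : Y.Modules) (U : Y.Opens) (a : ℕ → Γ(F, U)) : Prop :=
  ∀ k, a (k + 1) - a k ∈ idl p U ^ (k + 1) • (⊤ : Submodule Γ(Y, U) Γ(F, U))

include hpow in
/-- A converging sequence gives a section of the completion. -/
theorem exists_sec (F : Y.Modules) [Coh.IsQCoh F] {U : Y.Opens} (hU : IsAffineOpen U) (a : ℕ → Γ(F, U))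
    (ha : Compat p F U a) :
    ∃ x : MSec ((resSys p hp F).realMod h) (p 0 ⁻¹ᵁ U), ∀ k, rp h _ _ k (p 0 ⁻¹ᵁ U) x = tk h p hp F U k (a k) :=
  exists_rp h _ _ (fun k => tk h p hp F U k (a k)) fun k =>
    (lvT_tk h p hp F U k (a (k + 1))).trans (tk_congr h p hp hpow F hU k (ha k))

include hpow in
/-- Every section of the completion comes from a converging sequence. -/
theorem exists_seq (F : Y.Modules) [Coh.IsQCoh F] {U : Y.Opens} (hU : IsAffineOpen U)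
    (x : MSec ((resSys p hp F).realMod h) (p 0 ⁻¹ᵁ U)) :
    ∃ a : ℕ → Γ(F, U), Compat p F U a ∧ ∀ k, rp h _ _ k (p 0 ⁻¹ᵁ U) x = tk h p hp F U k (a k) := by
  choose a ha using fun k => (tk_spec h p hp hpow F hU k).1 (rp h _ _ k (p 0 ⁻¹ᵁ U) x)
  refine ⟨a, fun k => ((tk_spec h p hp hpow F hU k).2 _).1 ?_, fun k => (ha k).symm⟩
  refine (map_sub _ _ _).trans (sub_eq_zero.2 ?_)
  exact ((lvT_tk h p hp F U k (a (k + 1))).symm.trans
    ((congrArg (lvT h _ _ k _) (ha (k + 1))).trans (rp_succ h _ _ k _ x))).trans (ha k).symm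

omit [∀ n, IsClosedImmersion (p n)] in
/-- The induced map on sections at a level. -/
theorem rp_app {F G : Y.Modules} (φ : F ⟶ G) (ψ : resSys p hp F ⟶ resSys p hp G)
    (hψ : ∀ k, ψ.app k = (Scheme.Modules.pullback (p k)).map φ) (U : Y.Opens) (k : ℕ)
    (x : MSec ((resSys p hp F).realMod h) (p 0 ⁻¹ᵁ U)) (a : Γ(F, U))
    (hx : rp h _ _ k (p 0 ⁻¹ᵁ U) x = tk h p hp F U k a) :
    rp h _ _ k (p 0 ⁻¹ᵁ U) ((ModSys.realModMap h ψ).val.app (op (p 0 ⁻¹ᵁ U)) x) = tk h p hp G U k (φ.app U a) := by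
  refine Eq.trans ?_ (CohCmpLib.puSecLE_natural (p k) φ (hle h p hp U k) a)
  refine Eq.trans ?_ (congrArg (((Scheme.Modules.pullback (p k)).map φ).app _) hx)
  rw [← hψ k]
  exact congr($(congrArg (fun b : (resSys p hp F).realMod h ⟶ _ => b.val.app (op (p 0 ⁻¹ᵁ U)))
    (realLimMap_realProj 𝔛 h ψ.app (ModSys.Hom.toPush_comm ψ) k)) x)

include hpow in
/-- A converging sequence of functions gives a function on the formal scheme. -/
theorem exists_scalar {U : Y.Opens} (hU : IsAffineOpen U) (c : ℕ → Γ(Y, U))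
    (hc : ∀ k, c (k + 1) - c k ∈ idl p U ^ (k + 1)) :
    ∃ b : RSec (𝔛.Osh h) (p 0 ⁻¹ᵁ U), ∀ k,
      oK h k (p 0 ⁻¹ᵁ U) b = ((p k).appLE U _ (hle h p hp U k)).hom (c k) := by
  have hV : IsAffineOpen (p 0 ⁻¹ᵁ U) := hU.preimage (p 0)
  have hcomp : ∀ n, (FModLib.secSys h (p 0 ⁻¹ᵁ U) hV).f n (((p (n + 1)).appLE U _ (hle h p hp U (n + 1))).hom (c (n + 1))) =
      ((p n).appLE U _ (hle h p hp U n)).hom (c n) := fun n => by
    show ((p (n + 1)).appLE U _ (hle h p hp U (n + 1)) ≫ (𝔛.ι n).appLE _ _ (𝔛.lvU_le h n (p 0 ⁻¹ᵁ U))).hom (c (n + 1)) = _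
    rw [Scheme.Hom.appLE_comp_appLE]
    simp only [hp n]
    refine sub_eq_zero.1 ((map_sub _ _ _).symm.trans ?_)
    rw [← RingHom.mem_ker, ker_scal h p hp hpow hU n]
    exact hc n
  obtain ⟨b, hb⟩ := (FModLib.toLim_bijective h (p 0 ⁻¹ᵁ U) hV).2 ⟨fun n => ((p n).appLE U _ (hle h p hp U n)).hom (c n), hcomp⟩
  exact ⟨b, fun k => congrArg (fun z => z.1 k) hb⟩

omit [∀ n, IsClosedImmersion (p n)] in
/-- Scalars act on sections levelwise. -/
theorem rp_smul_tk (F : Y.Modules) (U : Y.Opens) (k : ℕ) (b : RSec (𝔛.Osh h) (p 0 ⁻¹ᵁ U)) (c : Γ(Y, U))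
    (hb : oK h k (p 0 ⁻¹ᵁ U) b = ((p k).appLE U _ (hle h p hp U k)).hom c)
    (x : MSec ((resSys p hp F).realMod h) (p 0 ⁻¹ᵁ U)) (a : Γ(F, U))
    (hx : rp h _ _ k (p 0 ⁻¹ᵁ U) x = tk h p hp F U k a) :
    rp h _ _ k (p 0 ⁻¹ᵁ U) (b • x) = tk h p hp F U k (c • a) := by
  refine (FCohLib.rp_smul h _ _ k b x).trans ?_
  rw [hb, hx]
  exact (KFlatLib.puSecLE_smul (p k) F (hle h p hp U k) c a).symm

end FCplAffLib

end
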